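import Cfsg.Agent.Fusion.PGroup
import Cfsg.Agent.Fusion.Residual
import Mathlib.GroupTheory.Subgroup.Center
import Mathlib.GroupTheory.Transfer
import Mathlib.GroupTheory.Nilpotent

/-!
Itô's theorem on groups with two conjugacy class sizes.
-/

set_option autoImplicit false
set_option linter.unusedSectionVars false
set_option linter.style.haveILetI false

namespace Cfsg.Agent.TwoClassSizes

open Subgroup
open scoped commutatorElement

universe u

variable {G : Type u} [Group G] [Finite G]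

/-- A proper subgroup has an element outside all its conjugates. -/
theorem exists_not_mem_conj {A : Subgroup G} (hA : A ≠ ⊤) :
    ∃ v : G, ∀ g : G, g⁻¹ * v * g ∉ A := by
  by_contra hcon
  push Not at hcon
  let f : (G ⧸ A) × {a : A // a ≠ 1} → {v : G // v ≠ 1} := fun qa =>
    ⟨qa.1.out * (qa.2.1 : G) * qa.1.out⁻¹, fun e => qa.2.2 (Subtype.ext (conj_eq_one_iff.mp e))⟩
  have hf : Function.Surjective f := by
    rintro ⟨v, hv⟩
    obtain ⟨g, hg⟩ := hcon v
    set a0 : A := ⟨(g : G ⧸ A).out⁻¹ * g, QuotientGroup.eq.mp (QuotientGroup.out_eq' _)⟩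
    refine ⟨((g : G ⧸ A), ⟨a0 * ⟨g⁻¹ * v * g, hg⟩ * a0⁻¹, ?_⟩), ?_⟩
    · intro e
      have e1 : g⁻¹ * v * g = 1 := congrArg Subtype.val (conj_eq_one_iff.mp e)
      exact hv (by simpa [mul_assoc] using congrArg (fun t => g * t * g⁻¹) e1)
    · refine Subtype.ext ?_
      simp only [f, a0, Subgroup.coe_mul, InvMemClass.coe_inv]
      group
  have h1 : Nat.card {a : A // a ≠ 1} + 1 = Nat.card A := by
    classical
    have := Nat.card_congr (Equiv.optionSubtypeNe (1 : A))
    rwa [Finite.card_option] at this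
  have h2 : Nat.card {v : G // v ≠ 1} + 1 = Nat.card G := by
    classical
    have := Nat.card_congr (Equiv.optionSubtypeNe (1 : G))
    rwa [Finite.card_option] at this
  have h3 := Nat.card_le_card_of_surjective f hf
  rw [Nat.card_prod, ← index_eq_card] at h3
  have h4 := A.index_mul_card
  rw [← h1, ← h2, mul_add, mul_one] at h4
  have h5 : A.index ≤ 1 := by omega
  exact hA (index_eq_one.mp (le_antisymm h5 (Nat.pos_of_ne_zero A.index_ne_zero_of_finite)))

/-- A subgroup containing all prime power elements of `H` contains `H`. -/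
theorem le_of_primePow_mem {H K : Subgroup G}
    (h : ∀ g ∈ H, ∀ r : ℕ, r.Prime → (∃ k, orderOf g ∣ r ^ k) → g ∈ K) : H ≤ K := by
  intro g hg
  induction hn : orderOf g using Nat.strong_induction_on generalizing g with
  | _ n IH =>
  subst hn
  rcases eq_or_ne (orderOf g) 1 with h1 | h1
  · rw [orderOf_eq_one_iff.mp h1]; exact one_mem K
  obtain ⟨r, hr, hrd⟩ := Nat.exists_prime_and_dvd h1
  haveI := Fact.mk hr
  obtain ⟨a, b, rfl, -, ha, hb, hak, hbc⟩ := Fusion.exists_pPart_mul (p := r) g (isOfFinOrder_of_finite g)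
  refine mul_mem (h a (zpowers_le.mpr hg ha) r hr hak) (IH _ ?_ (zpowers_le.mpr hg hb) rfl)
  refine lt_of_le_of_ne (Nat.le_of_dvd (orderOf_pos _) (orderOf_dvd_of_mem_zpowers hb)) fun e => ?_
  exact (Nat.Prime.coprime_iff_not_dvd hr).mp hbc.symm (e ▸ hrd)

/-- The class sizes are `1` and `n`. -/
def Hyp (G : Type u) [Group G] (n : ℕ) : Prop :=
  1 < n ∧ ∀ x : G, x ∉ center G → (centralizer ({x} : Set G)).index = n

variable {n : ℕ}

local notation "C[" x "]" => Subgroup.centralizer ({x} : Set _)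

theorem center_le_centralizer_singleton (x : G) : center G ≤ C[x] :=
  center_le_centralizer _

theorem Hyp.card_eq (h : Hyp G n) {x y : G} (hx : x ∉ center G) (hy : y ∉ center G) :
    Nat.card C[x] = Nat.card C[y] := by
  have h1 := (C[x]).card_mul_index
  have h2 := (C[y]).card_mul_index
  rw [h.2 x hx] at h1
  rw [h.2 y hy, ← h1] at h2
  exact (Nat.eq_of_mul_eq_mul_right (by have := h.1; omega) h2).symm

theorem Hyp.eq_of_le (h : Hyp G n) {x y : G} (hx : x ∉ center G) (hy : y ∉ center G)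
    (hle : C[x] ≤ C[y]) : C[x] = C[y] :=
  eq_of_le_of_card_ge hle (h.card_eq hy hx).le

theorem centralizer_le_of_mem_zpowers {x y : G} (hy : y ∈ zpowers x) : C[x] ≤ C[y] := by
  intro g hg
  rw [mem_centralizer_singleton_iff] at hg ⊢
  obtain ⟨k, rfl⟩ := mem_zpowers_iff.mp hy
  exact ((show Commute g x from hg).zpow_right k).eq

theorem Hyp.eq_of_commute_coprime (h : Hyp G n) {x y : G} (hxy : Commute x y)
    (hcop : (orderOf x).Coprime (orderOf y)) (hx : x ∉ center G) (hy : y ∉ center G) :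
    C[x] = C[y] := by
  have key : ∀ a b : G, Commute a b → (orderOf a).Coprime (orderOf b) → a ∈ zpowers (a * b) := by
    intro a b hab hc
    obtain ⟨m, hm1, hm2⟩ := Nat.chineseRemainder hc 1 0
    refine ⟨(m : ℤ), ?_⟩
    show (a * b) ^ (m : ℤ) = a
    rw [zpow_natCast, hab.mul_pow, pow_eq_pow_iff_modEq.mpr hm1, pow_eq_pow_iff_modEq.mpr hm2]
    simp
  have hx' : x ∈ zpowers (x * y) := key x y hxy hcop
  have hy' : y ∈ zpowers (x * y) := hxy.eq ▸ key y x hxy.symm hcop.symm
  have hxyZ : x * y ∉ center G := fun hz => hx (zpowers_le.mpr hz hx')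
  rw [← h.eq_of_le hxyZ hx (centralizer_le_of_mem_zpowers hx'),
    ← h.eq_of_le hxyZ hy (centralizer_le_of_mem_zpowers hy')]

/-- Sylow subgroups of centralisers see all primes with non-central elements. -/
theorem Hyp.exists_noncentral (h : Hyp G n) {r : ℕ} [Fact r.Prime] {y₀ : G}
    (hy₀ : y₀ ∉ center G) (hy₀r : ∃ k, orderOf y₀ ∣ r ^ k) {x : G} (hx : x ∉ center G)
    (R : Sylow r C[x]) : ∃ y : G, y ∉ center G ∧ (∃ hy : y ∈ C[x], (⟨y, hy⟩ : C[x]) ∈ R) := by
  by_contra hcon
  push Not at hcon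
  set R' := (R : Subgroup C[x]).map C[x].subtype with hR'
  have hR'Z : R' ≤ center G := by
    rintro _ ⟨⟨y, hy⟩, hyR, rfl⟩
    by_contra hyZ
    exact hcon y hyZ hy hyR
  haveI : R'.Normal := ⟨fun z hz g => by
    rw [mem_center_iff.mp (hR'Z hz) g, mul_inv_cancel_right]; exact hz⟩
  have hR'p : IsPGroup r R' := R.2.map _
  obtain ⟨k, hk⟩ := hy₀r
  have hyp : IsPGroup r (zpowers y₀) := by
    obtain ⟨j, -, hj⟩ := (Nat.dvd_prime_pow Fact.out).mp hk
    exact IsPGroup.of_card (n := j) (by rw [Nat.card_zpowers, hj])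
  have hSp : IsPGroup r (R' ⊔ zpowers y₀ : Subgroup G) := hR'p.to_sup_of_normal_left hyp
  have hSC : R' ⊔ zpowers y₀ ≤ C[y₀] :=
    sup_le (hR'Z.trans (center_le_centralizer_singleton _))
      (zpowers_le.mpr (mem_centralizer_singleton_iff.mpr rfl))
  have hlt : Nat.card R' < Nat.card (R' ⊔ zpowers y₀ : Subgroup G) := by
    refine lt_of_le_of_ne (card_le_of_le le_sup_left) fun e => hy₀ ?_
    exact hR'Z ((eq_of_le_of_card_ge le_sup_left e.ge).ge (mem_sup_right (mem_zpowers y₀)))
  obtain ⟨i, hi⟩ := IsPGroup.iff_card.mp hSp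
  have hdvd : r ^ i ∣ Nat.card C[x] := by
    rw [h.card_eq hx hy₀, ← hi]
    exact card_dvd_of_le hSC
  have h2 : Nat.card (R' ⊔ zpowers y₀ : Subgroup G) ∣ Nat.card R' := by
    rw [hi, hR', card_map_of_injective C[x].subtype_injective, R.card_eq_multiplicity]
    exact (Nat.Prime.pow_dvd_iff_dvd_ordProj Fact.out Nat.card_pos.ne').mp hdvd
  exact absurd (Nat.le_of_dvd Nat.card_pos h2) (by omega)

/-- The `r`-part of `|C(x) : Z|`. -/
noncomputable def part (G : Type u) [Group G] (r : ℕ) (x : G) : ℕ :=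
  r ^ ((Subgroup.center G).relIndex (Subgroup.centralizer ({x} : Set G))).factorization r

theorem Hyp.part_eq (h : Hyp G n) (r : ℕ) {x y : G} (hx : x ∉ center G) (hy : y ∉ center G) :
    part G r x = part G r y := by
  have h1 := card_mul_index ((center G).subgroupOf C[x])
  have h2 := card_mul_index ((center G).subgroupOf C[y])
  rw [Nat.card_congr (subgroupOfEquivOfLe (center_le_centralizer_singleton x)).toEquiv] at h1
  rw [Nat.card_congr (subgroupOfEquivOfLe (center_le_centralizer_singleton y)).toEquiv,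
    ← h.card_eq hx hy, ← h1] at h2
  unfold part relIndex
  rw [Nat.eq_of_mul_eq_mul_left Nat.card_pos h2]

theorem relIndex_center_sylow {r : ℕ} [Fact r.Prime] (x : G) (R : Sylow r C[x]) :
    (center G).relIndex ((R : Subgroup C[x]).map C[x].subtype) = part G r x := by
  set R' := (R : Subgroup C[x]).map C[x].subtype with hR'
  have hR'p : IsPGroup r R' := R.2.map _
  obtain ⟨i, hi⟩ := IsPGroup.iff_card.mp hR'p
  obtain ⟨j, -, hj⟩ := (Nat.dvd_prime_pow Fact.out).mp (hi ▸ relIndex_dvd_card (center G) R')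
  have hmul : (center G).relIndex R' * (center G ⊔ R').relIndex C[x] = (center G).relIndex C[x] := by
    rw [← relIndex_sup_left (K := center G) (H := R')]
    exact relIndex_mul_relIndex _ _ _ le_sup_left
      (sup_le (center_le_centralizer_singleton x) (map_subtype_le _))
  have hndvd : ¬ r ∣ (center G ⊔ R').relIndex C[x] := fun hd => R.not_dvd_index <| by
    refine hd.trans ((relIndex_dvd_of_le_left (L := C[x]) (le_sup_right : R' ≤ _)).trans ?_)
    rw [hR', relIndex, show ((R : Subgroup C[x]).map C[x].subtype).subgroupOf C[x] = (R : Subgroup C[x]) from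
      comap_map_eq_self_of_injective C[x].subtype_injective _]
  unfold part
  rw [← hmul, hj, Nat.factorization_mul (pow_ne_zero _ (Fact.out : r.Prime).ne_zero)
    (fun e => hndvd (by rw [e]; exact dvd_zero r)), Finsupp.coe_add, Pi.add_apply,
    Nat.Prime.factorization_pow Fact.out, Nat.factorization_eq_zero_of_not_dvd hndvd]
  simp

theorem exists_sylow_normalizes {p : ℕ} [Fact p.Prime] (P : Sylow p G)
    (hP : ¬ (P : Subgroup G) ≤ center G) :
    ∃ x : G, x ∉ center G ∧ (P : Subgroup G) ≤ normalizer (C[x] : Set G) := by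
  set K := (center G).subgroupOf (P : Subgroup G) with hK
  haveI : K.Normal := Normal.comap inferInstance _
  haveI : Nontrivial ((P : Subgroup G) ⧸ K) := by
    obtain ⟨a, ha, haZ⟩ := SetLike.not_le_iff_exists.mp hP
    exact ⟨⟨(⟨a, ha⟩ : (P : Subgroup G)), 1, fun e => haZ (mem_subgroupOf.mp ((QuotientGroup.eq_one_iff _).mp e))⟩⟩
  haveI := (P.2.to_quotient K).center_nontrivial
  obtain ⟨⟨c, hc⟩, hc1⟩ := exists_ne (1 : center ((P : Subgroup G) ⧸ K))
  obtain ⟨x, rfl⟩ := QuotientGroup.mk_surjective c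
  refine ⟨x, fun hxZ => hc1 (Subtype.ext ((QuotientGroup.eq_one_iff _).mpr hxZ)), fun u hu => ?_⟩
  have hz : ((⟨u, hu⟩ : (P : Subgroup G)) * x)⁻¹ * (x * ⟨u, hu⟩) ∈ K :=
    QuotientGroup.eq.mp (mem_center_iff.mp hc (QuotientGroup.mk (⟨u, hu⟩ : (P : Subgroup G))))
  obtain ⟨z, hzZ, hzeq⟩ : ∃ z ∈ center G, (x : G) * u = u * (x : G) * z :=
    ⟨_, hz, by simp [mul_assoc]⟩
  rw [mem_normalizer_iff]
  intro g
  simp only [SetLike.mem_coe, mem_centralizer_singleton_iff]
  have hzc := mem_center_iff.mp hzZ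
  constructor
  · intro hg
    calc u * g * u⁻¹ * x = u * g * (u⁻¹ * x * u) * u⁻¹ := by group
      _ = u * g * (x * z) * u⁻¹ := by
        rw [show u⁻¹ * (x : G) * u = x * z by rw [mul_assoc u⁻¹, hzeq]; group]
      _ = u * (g * x) * u⁻¹ * z := by
        rw [← mul_assoc (u * g), mul_assoc u g x, mul_assoc _ z, ← hzc u⁻¹, ← mul_assoc]
      _ = u * (x * g) * u⁻¹ * z := by rw [hg]
      _ = u * x * z * (g * u⁻¹) := by
        rw [mul_assoc (u * x) z, ← hzc (g * u⁻¹)]; group
      _ = x * u * (g * u⁻¹) := by rw [hzeq]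
      _ = x * (u * g * u⁻¹) := by group
  · intro hg
    have h1 : u * (g * x) = u * (x * g) := by
      have e1 : (u * g * u⁻¹) * x * u = x * (u * g * u⁻¹) * u := by rw [hg]
      have e2 : u * g * x * z = x * u * g := by
        calc u * g * x * z = u * g * u⁻¹ * (u * x * z) := by group
          _ = u * g * u⁻¹ * (x * u) := by rw [hzeq]
          _ = (u * g * u⁻¹) * x * u := by group
          _ = x * (u * g * u⁻¹) * u := e1
          _ = x * u * g := by group
      rw [hzeq, mul_assoc (u * x) z g, ← hzc g, ← mul_assoc] at e2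
      rw [← mul_assoc, ← mul_assoc]
      exact mul_right_cancel (b := z) e2
    exact mul_left_cancel h1

variable (hAC : ∀ x : G, x ∉ center G → IsMulCommutative C[x])

include hAC in
theorem Hyp.eq_of_mem (h : Hyp G n) {x y : G} (hx : x ∉ center G) (hy : y ∉ center G)
    (hyx : y ∈ C[x]) : C[x] = C[y] :=
  h.eq_of_le hx hy fun g hg => mem_centralizer_singleton_iff.mpr
    (congrArg Subtype.val ((hAC x hx).is_comm.comm ⟨g, hg⟩ ⟨y, hyx⟩))

include hAC in
theorem Hyp.part_le (h : Hyp G n) {p : ℕ} [Fact p.Prime] {P : Sylow p G} {x : G}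
    (hx : x ∉ center G) : part G p x ≤ (C[x]).relIndex (P : Subgroup G) := by
  have hAtop : C[x] ≠ ⊤ := fun e => by
    have := h.2 x hx
    rw [e, index_top] at this
    have := h.1; omega
  obtain ⟨v, hv⟩ := exists_not_mem_conj hAtop
  have hvZ : v ∉ center G := fun hz => hv 1 (by simpa using center_le_centralizer_singleton x hz)
  obtain ⟨R⟩ := (inferInstance : Nonempty (Sylow p C[v]))
  obtain ⟨Q, hQ⟩ := (R.2.map C[v].subtype).exists_le_sylow
  obtain ⟨g, hg⟩ := MulAction.exists_smul_eq G Q P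
  set R' := ((R : Subgroup C[v]).map C[v].subtype).map (MulAut.conj g).toMonoidHom with hR'
  have hR'P : R' ≤ (P : Subgroup G) := by
    rw [← hg, Sylow.coe_subgroup_smul]
    rintro _ ⟨y, hy, rfl⟩
    exact ⟨y, hQ hy, rfl⟩
  have hne : C[g * v * g⁻¹] ≠ C[x] := fun e => hv g⁻¹ (by
    rw [inv_inv, ← e]; exact mem_centralizer_singleton_iff.mpr rfl)
  have hv'Z : g * v * g⁻¹ ∉ center G := fun hz => hvZ (by
    have := (inferInstance : (center G).Normal).conj_mem _ hz g⁻¹
    simpa [mul_assoc] using this)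
  have hR'C : R' ≤ C[g * v * g⁻¹] := by
    rintro _ ⟨y, hy, rfl⟩
    have hyv := mem_centralizer_singleton_iff.mp (map_subtype_le _ hy)
    rw [mem_centralizer_singleton_iff]
    show g * y * g⁻¹ * (g * v * g⁻¹) = g * v * g⁻¹ * (g * y * g⁻¹)
    calc g * y * g⁻¹ * (g * v * g⁻¹) = g * (y * v) * g⁻¹ := by group
      _ = g * (v * y) * g⁻¹ := by rw [hyv]
      _ = g * v * g⁻¹ * (g * y * g⁻¹) := by group
  have hinf : center G ⊓ R' = C[x] ⊓ R' := by
    refine le_antisymm (inf_le_inf_right _ (center_le_centralizer_singleton x)) ?_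
    rintro y ⟨hy1, hy2⟩
    refine ⟨?_, hy2⟩
    by_contra hyZ
    exact hne ((h.eq_of_mem hAC hv'Z hyZ (hR'C hy2)).trans (h.eq_of_mem hAC hx hyZ hy1).symm)
  calc part G p x = part G p v := h.part_eq p hx hvZ
    _ = (center G).relIndex ((R : Subgroup C[v]).map C[v].subtype) := (relIndex_center_sylow v R).symm
    _ = ((center G).map (MulAut.conj g).toMonoidHom).relIndex R' :=
      (relIndex_map_map_of_injective _ _ (MulAut.conj g).injective).symm
    _ = (center G).relIndex R' := by rw [Subgroup.characteristic_iff_map_eq.mp inferInstance]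
    _ = (C[x]).relIndex R' := by rw [← inf_relIndex_right, hinf, inf_relIndex_right]
    _ ≤ (C[x]).relIndex (P : Subgroup G) :=
      relIndex_le_of_le_right hR'P index_ne_zero_of_finite

include hAC in
theorem Hyp.lt_part (h : Hyp G n) {p q : ℕ} [Fact p.Prime] [Fact q.Prime] (hpq : p ≠ q)
    {P : Sylow p G} {x : G} (hx : x ∉ center G) (hPA : (P : Subgroup G) ≤ normalizer (C[x] : Set G))
    {y₀ : G} (hy₀ : y₀ ∉ center G) (hy₀q : ∃ k, orderOf y₀ ∣ q ^ k) :
    (C[x]).relIndex (P : Subgroup G) < part G q x := by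
  obtain ⟨W⟩ := (inferInstance : Nonempty (Sylow q C[x]))
  haveI := hAC x hx
  haveI hWn : (W : Subgroup C[x]).Normal := ⟨fun a ha g => by
    rw [IsMulCommutative.is_comm.comm g a, mul_inv_cancel_right]; exact ha⟩
  set W' := (W : Subgroup C[x]).map C[x].subtype with hW'
  obtain ⟨y, hyZ, hyx, hyW⟩ := h.exists_noncentral hy₀ hy₀q hx W
  have hW'p : IsPGroup q W' := W.2.map _
  have hyW' : y ∈ W' := ⟨⟨y, hyx⟩, hyW, rfl⟩
  have hPW : ∀ u ∈ (P : Subgroup G), u * y * u⁻¹ ∈ W' := by
    intro u hu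
    have hmem : u * y * u⁻¹ ∈ C[x] := (mem_normalizer_iff.mp (hPA hu) y).mp hyx
    obtain ⟨k, hk⟩ := IsPGroup.iff_orderOf.mp W.2 ⟨⟨y, hyx⟩, hyW⟩
    have hord : orderOf (⟨u * y * u⁻¹, hmem⟩ : C[x]) = q ^ k := by
      rw [Subgroup.orderOf_mk, show u * y * u⁻¹ = MulAut.conj u y from rfl, MulEquiv.orderOf_eq, ← hk,
        Subgroup.orderOf_mk, Subgroup.orderOf_mk]
    obtain ⟨T, hT⟩ := (IsPGroup.of_card (n := k)
      (by rw [Nat.card_zpowers, hord] : Nat.card (zpowers (⟨u * y * u⁻¹, hmem⟩ : C[x])) = q ^ k)).exists_le_sylow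
    haveI := Sylow.unique_of_normal W hWn
    rw [Subsingleton.elim T W] at hT
    exact ⟨_, hT (mem_zpowers _), rfl⟩
  set N := (center G).subgroupOf W'
  let f : (P : Subgroup G) ⧸ (C[x]).subgroupOf (P : Subgroup G) → W' ⧸ N := fun a =>
    QuotientGroup.mk ⟨(a.out : G) * y * (a.out : G)⁻¹, hPW _ a.out.2⟩
  have hne : ∀ a, f a ≠ QuotientGroup.mk (1 : W') := by
    intro a e
    have e1 := QuotientGroup.eq.mp e
    have e2 : (a.out : G) * y * (a.out : G)⁻¹ ∈ center G := by
      have := (center G).inv_mem (mem_subgroupOf.mp e1)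
      simpa [mul_assoc] using this
    exact hyZ (by simpa [mul_assoc] using
      (inferInstance : (center G).Normal).conj_mem _ e2 (a.out : G)⁻¹)
  have hfix : ∀ w ∈ (P : Subgroup G), y⁻¹ * (w * y * w⁻¹) ∈ center G → w ∈ C[x] := by
    intro w hw hz
    set z := y⁻¹ * (w * y * w⁻¹) with hzdef
    have hzW : z ∈ W' := mul_mem (inv_mem hyW') (hPW w hw)
    have hit : ∀ k : ℕ, w ^ k * y * (w ^ k)⁻¹ = y * z ^ k := by
      intro k
      induction k with
      | zero => simp
      | succ k ih =>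
        calc w ^ (k + 1) * y * (w ^ (k + 1))⁻¹ = w * (w ^ k * y * (w ^ k)⁻¹) * w⁻¹ := by
              rw [pow_succ']; group
          _ = w * (y * z ^ k) * w⁻¹ := by rw [ih]
          _ = w * y * (z ^ k * w⁻¹) := by group
          _ = w * y * (w⁻¹ * z ^ k) := by rw [mem_center_iff.mp (pow_mem hz k) w⁻¹]
          _ = y * z * z ^ k := by rw [hzdef]; group
          _ = y * z ^ (k + 1) := by rw [pow_succ']; group
    obtain ⟨i, hi⟩ := IsPGroup.iff_orderOf.mp P.2 ⟨w, hw⟩
    rw [Subgroup.orderOf_mk] at hi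
    obtain ⟨j, hj⟩ := IsPGroup.iff_orderOf.mp hW'p ⟨z, hzW⟩
    rw [Subgroup.orderOf_mk] at hj
    have h1 := hit (p ^ i)
    rw [← hi, pow_orderOf_eq_one, one_mul, inv_one, mul_one, eq_comm, mul_eq_left, hi] at h1
    have hd : orderOf z ∣ p ^ i := orderOf_dvd_of_pow_eq_one h1
    have hz1 : z = 1 := orderOf_eq_one_iff.mp (Nat.eq_one_of_dvd_coprimes
      (Nat.Coprime.pow i j ((Nat.coprime_primes Fact.out Fact.out).mpr hpq)) hd hj.dvd)
    rw [hzdef, inv_mul_eq_one] at hz1
    rw [h.eq_of_mem hAC hx hyZ hyx, mem_centralizer_singleton_iff]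
    calc w * y = w * y * w⁻¹ * w := by group
      _ = y * w := by rw [← hz1]
  have hinj : Function.Injective f := by
    intro a b e
    rw [← QuotientGroup.out_eq' a, ← QuotientGroup.out_eq' b, QuotientGroup.eq, mem_subgroupOf]
    refine hfix _ (((P : Subgroup G).mul_mem ((P : Subgroup G).inv_mem a.out.2) b.out.2)) ?_
    have e1 := mem_subgroupOf.mp (QuotientGroup.eq.mp e)
    have e2 := (inferInstance : (center G).Normal).conj_mem _ e1 (a.out : G)⁻¹
    push_cast at e2 ⊢
    simpa [mul_assoc] using e2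
  rw [← relIndex_center_sylow x W, ← hW', relIndex, relIndex, index_eq_card, index_eq_card]
  have hlt : (Set.range f).ncard < Nat.card (W' ⧸ N) := by
    rw [← Set.ncard_univ]
    refine Set.ncard_lt_ncard (Set.ssubset_univ_iff.mpr fun e => ?_) (Set.toFinite _)
    obtain ⟨a, ha⟩ := (e ▸ Set.mem_univ (QuotientGroup.mk (1 : W')) : _ ∈ Set.range f)
    exact hne a ha
  rwa [← Nat.card_coe_set_eq, Nat.card_range_of_injective hinj] at hlt

omit hAC in
/-- All primes except one have only central elements. -/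
theorem Hyp.exists_prime (h : Hyp G n) :
    ∃ p : ℕ, p.Prime ∧
      ∀ r : ℕ, r.Prime → r ≠ p → ∀ y : G, (∃ k, orderOf y ∣ r ^ k) → y ∈ center G := by
  have hne : n ≠ 1 := fun e => by have := h.1; omega
  have hex : ∀ x : G, x ∉ center G →
      ∃ p : ℕ, p.Prime ∧ ∃ z ∈ zpowers x, z ∉ center G ∧ ∃ k, orderOf z ∣ p ^ k := by
    intro x hx
    by_contra hcon
    exact hx (le_of_primePow_mem (H := zpowers x) (K := center G)
      (fun g hg r hr hk => by
        by_contra hgZ
        exact hcon ⟨r, hr, g, hg, hgZ, hk⟩) (mem_zpowers x))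
  by_cases hAC : ∀ x : G, x ∉ center G → IsMulCommutative C[x]
  swap
  · push Not at hAC
    obtain ⟨x₀, hx₀, hna⟩ := hAC
    obtain ⟨p, hp, x, hxz, hx, hxp⟩ := hex x₀ hx₀
    have hC : C[x₀] = C[x] := h.eq_of_le hx₀ hx (centralizer_le_of_mem_zpowers hxz)
    rw [hC] at hna
    refine ⟨p, hp, fun r hr hrp y₁ hy₁r => ?_⟩
    by_contra hy₁
    haveI := Fact.mk hr
    obtain ⟨R⟩ := (inferInstance : Nonempty (Sylow r C[x]))
    obtain ⟨y, hyZ, hyx, hyR⟩ := h.exists_noncentral hy₁ hy₁r hx R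
    obtain ⟨ky, hky⟩ := IsPGroup.iff_orderOf.mp R.2 ⟨⟨y, hyx⟩, hyR⟩
    rw [Subgroup.orderOf_mk, Subgroup.orderOf_mk] at hky
    obtain ⟨kx, hkx⟩ := hxp
    have hcp : ∀ {a b : G} {s t i j : ℕ}, s.Prime → t.Prime → s ≠ t → orderOf a ∣ s ^ i →
        orderOf b ∣ t ^ j → (orderOf a).Coprime (orderOf b) := fun hs ht hst ha hb =>
      ((Nat.coprime_primes hs ht).mpr hst).pow _ _ |>.coprime_dvd_left ha |>.coprime_dvd_right hb
    have hCy : C[x] = C[y] := h.eq_of_commute_coprime
      (show Commute x y from (mem_centralizer_singleton_iff.mp hyx).symm)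
      (hcp hp hr hrp.symm hkx hky.dvd) hx hyZ
    -- all prime power elements are central in `C(x)`
    have hcent : ∀ e ∈ C[x], ∀ s : ℕ, s.Prime → (∃ k, orderOf e ∣ s ^ k) →
        e ∈ centralizer (C[x] : Set G) := by
      intro e he s hs ⟨ks, hks⟩
      by_cases heZ : e ∈ center G
      · exact center_le_centralizer _ heZ
      have hCe : C[x] = C[e] := by
        by_cases hsp : s = p
        · rw [hCy]
          exact h.eq_of_commute_coprime
            (show Commute y e from (mem_centralizer_singleton_iff.mp (hCy ▸ he)).symm)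
            (hcp hr hs (hsp ▸ hrp) hky.dvd hks) hyZ heZ
        · exact h.eq_of_commute_coprime
            (show Commute x e from (mem_centralizer_singleton_iff.mp he).symm)
            (hcp hp hs (Ne.symm hsp) hkx hks) hx heZ
      rw [mem_centralizer_iff]
      intro g hg
      exact mem_centralizer_singleton_iff.mp (hCe ▸ hg)
    exact hna (le_centralizer_iff_isMulCommutative.mp (le_of_primePow_mem hcent))
  obtain ⟨p, hp, hpn⟩ := Nat.exists_prime_and_dvd hne
  haveI := Fact.mk hp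
  refine ⟨p, hp, fun q hq hqp y₀ hy₀q => ?_⟩
  by_contra hy₀
  haveI := Fact.mk hq
  have hsyl : ∀ (r : ℕ) [Fact r.Prime], r ∣ n →
      ∃ (R : Sylow r G), ¬ (R : Subgroup G) ≤ center G := by
    intro r _ hrn
    obtain ⟨R⟩ := (inferInstance : Nonempty (Sylow r G))
    refine ⟨R, fun hR => R.not_dvd_index ?_⟩
    rw [← h.2 y₀ hy₀] at hrn
    exact hrn.trans (index_dvd_of_le (hR.trans (center_le_centralizer_singleton y₀)))
  have hnon : ∀ (r : ℕ) [Fact r.Prime], r ∣ n →
      ∃ y : G, y ∉ center G ∧ ∃ k, orderOf y ∣ r ^ k := by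
    intro r _ hrn
    obtain ⟨R, hR⟩ := hsyl r hrn
    obtain ⟨y, hy, hyZ⟩ := SetLike.not_le_iff_exists.mp hR
    obtain ⟨k, hk⟩ := IsPGroup.iff_orderOf.mp R.2 ⟨y, hy⟩
    exact ⟨y, hyZ, k, by rw [Subgroup.orderOf_mk] at hk; exact hk.dvd⟩
  obtain ⟨P, hP⟩ := hsyl p hpn
  obtain ⟨x, hx, hPA⟩ := exists_sylow_normalizes P hP
  have hnp : n = p ^ n.primeFactorsList.length := by
    refine Nat.eq_prime_pow_of_unique_prime_dvd (by have := h.1; omega) fun {r} hr hrn => ?_
    by_contra hrp
    haveI := Fact.mk hr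
    obtain ⟨y, hy, hyr⟩ := hnon r hrn
    obtain ⟨z, hz, hzp⟩ := hnon p hpn
    obtain ⟨R, hR⟩ := hsyl r hrn
    obtain ⟨x', hx', hRA⟩ := exists_sylow_normalizes R hR
    have h1 := h.part_le hAC (P := P) hx
    have h2 := h.lt_part hAC (Ne.symm hrp) hx hPA hy hyr
    have h3 := h.part_le hAC (P := R) hx'
    have h4 := h.lt_part hAC hrp hx' hRA hz hzp
    rw [h.part_eq p hx' hx] at h4
    rw [h.part_eq r hx' hx] at h3
    omega
  haveI hAn : (C[x]).Normal := by
    rw [← normalizer_eq_top_iff, ← index_eq_one]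
    obtain ⟨i, -, hi⟩ := (Nat.dvd_prime_pow hp).mp
      ((index_dvd_of_le (Subgroup.le_normalizer (H := C[x]))).trans ((h.2 x hx).trans hnp).dvd)
    rcases i with _ | i
    · simpa using hi
    · exfalso
      exact P.not_dvd_index ((dvd_pow_self p i.succ_ne_zero).trans (hi ▸ index_dvd_of_le hPA))
  have hqA : ∀ y : G, (∃ k, orderOf y ∣ q ^ k) → y ∈ C[x] := by
    rintro y ⟨k, hk⟩
    rw [← QuotientGroup.eq_one_iff, ← orderOf_eq_one_iff]
    have h1 := (orderOf_map_dvd (QuotientGroup.mk' C[x]) y).trans hk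
    have h2 : orderOf (y : G ⧸ C[x]) ∣ p ^ n.primeFactorsList.length := by
      rw [← hnp, ← h.2 x hx, index_eq_card]
      exact orderOf_dvd_natCard _
    exact Nat.eq_one_of_dvd_coprimes
      (((Nat.coprime_primes hq hp).mpr hqp).pow k _) h1 h2
  have htop : (⊤ : Subgroup G) ≤ C[x] := by
    intro v _
    by_cases hvZ : v ∈ center G
    · exact center_le_centralizer_singleton x hvZ
    obtain ⟨R⟩ := (inferInstance : Nonempty (Sylow q C[v]))
    obtain ⟨y, hyZ, hyv, hyR⟩ := h.exists_noncentral hy₀ hy₀q hvZ R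
    obtain ⟨k, hk⟩ := IsPGroup.iff_orderOf.mp R.2 ⟨⟨y, hyv⟩, hyR⟩
    rw [Subgroup.orderOf_mk, Subgroup.orderOf_mk] at hk
    rw [h.eq_of_mem hAC hx hyZ (hqA y ⟨k, hk.dvd⟩), ← h.eq_of_mem hAC hvZ hyZ hyv]
    exact mem_centralizer_singleton_iff.mpr rfl
  have h1 := h.2 x hx
  rw [top_le_iff.mp htop, index_top] at h1
  exact hne h1.symm

/-- An abelian normal subgroup with quotient of exponent dividing `p`. -/
theorem exists_abelian_pow_mem {p : ℕ} [Fact p.Prime] (h : Hyp G n) (P : Sylow p G) :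
    ∃ A : Subgroup (P : Subgroup G), A.Normal ∧ IsMulCommutative A ∧
      ∀ y : (P : Subgroup G), y ^ p ∈ A := by
  obtain ⟨A, -, hAn, hAc, hmax⟩ :=
    Fusion.exists_maximal_normal_abelian (⊥ : Subgroup (P : Subgroup G)) inferInstance
  have hself := Fusion.centralizer_eq_of_maximal_normal_abelian P.2 A hAc hmax
  refine ⟨A, hAn, hAc, fun y => ?_⟩
  rw [← hself, mem_centralizer_iff]
  intro a ha
  by_cases hyp : ((y : G) ^ p) ∈ center G
  · exact Subtype.ext (by push_cast; exact mem_center_iff.mp hyp a)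
  have hC : C[(y : G)] = C[(y : G) ^ p] := by
    refine h.eq_of_le (fun hy => hyp (pow_mem hy p)) hyp ?_
    exact centralizer_le_of_mem_zpowers (pow_mem (mem_zpowers (y : G)) p)
  have hfix : ∀ b : (P : Subgroup G), Commute (y ^ p) b → Commute y b := by
    intro b hb
    have hb' : (b : G) ∈ C[(y : G) ^ p] := mem_centralizer_singleton_iff.mpr (by
      simpa using (congrArg Subtype.val hb.eq).symm)
    rw [← hC, mem_centralizer_singleton_iff] at hb'
    exact Subtype.ext (by simpa using hb'.symm)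
  have key : ∀ b ∈ A, Commute y ⁅y, b⁆ → Commute y b := by
    intro b hb hyz
    set z := ⁅y, b⁆ with hz
    have hzA : z ∈ A := by
      rw [hz, commutatorElement_def]
      exact mul_mem (hAn.conj_mem b hb y) (inv_mem hb)
    have hbz : Commute b z := congrArg Subtype.val (hAc.is_comm.comm ⟨b, hb⟩ ⟨z, hzA⟩)
    have hyb : y * b * y⁻¹ = z * b := by rw [hz, commutatorElement_def]; group
    by_contra hne
    have hz1 : z ≠ 1 := fun e => hne (commutatorElement_eq_one_iff_commute.mp e)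
    obtain ⟨i, hi⟩ := IsPGroup.iff_orderOf.mp P.2 z
    rcases i with _ | i
    · exact hz1 (orderOf_eq_one_iff.mp (by simpa using hi))
    set m := p ^ i
    have hym : y * b ^ m * y⁻¹ = z ^ m * b ^ m := by
      rw [← conj_pow, hyb, hbz.symm.mul_pow]
    have hit : ∀ k : ℕ, y ^ k * b ^ m * (y ^ k)⁻¹ = (z ^ m) ^ k * b ^ m := by
      intro k
      induction k with
      | zero => simp
      | succ k ih =>
        calc y ^ (k + 1) * b ^ m * (y ^ (k + 1))⁻¹ = y * (y ^ k * b ^ m * (y ^ k)⁻¹) * y⁻¹ := by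
              rw [pow_succ']; group
          _ = y * ((z ^ m) ^ k * b ^ m) * y⁻¹ := by rw [ih]
          _ = (z ^ m) ^ k * y * b ^ m * y⁻¹ := by
              rw [← mul_assoc y, ((hyz.pow_right m).pow_right k).eq]
          _ = (z ^ m) ^ k * (y * b ^ m * y⁻¹) := by group
          _ = (z ^ m) ^ k * (z ^ m * b ^ m) := by rw [hym]
          _ = (z ^ m) ^ (k + 1) * b ^ m := by rw [pow_succ, mul_assoc]
    have hzp : (z ^ m) ^ p = 1 := by
      rw [← pow_mul, ← pow_succ, ← hi, pow_orderOf_eq_one]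
    have h1 : Commute (y ^ p) (b ^ m) := by
      have h2 := hit p
      rw [hzp, one_mul] at h2
      exact mul_inv_eq_iff_eq_mul.mp h2
    have h3 := hfix _ h1
    rw [h3.eq, mul_inv_cancel_right, eq_comm, mul_eq_right] at hym
    have h4 := orderOf_dvd_of_pow_eq_one hym
    rw [hi] at h4
    exact absurd ((Nat.pow_dvd_pow_iff_le_right (Fact.out : p.Prime).one_lt).mp h4) (by omega)
  suffices hs : Commute y a from ((hs.pow_left p).eq).symm
  haveI := P.2.isNilpotent
  obtain ⟨c, hc⟩ := Subgroup.nilpotent_iff_lowerCentralSeries.mp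
    (inferInstance : Group.IsNilpotent (P : Subgroup G))
  suffices hall : ∀ i : ℕ, ∀ j : ℕ, i + j = c → ∀ b ∈ A,
      b ∈ (⊤ : Subgroup (P : Subgroup G)).lowerCentralSeries j → Commute y b from
    hall c 0 (add_zero c) a ha (by rw [Subgroup.lowerCentralSeries_zero]; exact mem_top a)
  intro i
  induction i with
  | zero =>
    intro j hj b _ hb
    rw [← hj, zero_add] at hc
    rw [hc, mem_bot] at hb
    rw [hb]
    exact Commute.one_right y
  | succ i ih =>
    intro j hj b hbA hb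
    refine key b hbA (ih (j + 1) (by omega) _ ?_ ?_)
    · rw [commutatorElement_def]
      exact mul_mem (hAn.conj_mem b hbA y) (inv_mem hbA)
    · rw [Subgroup.lowerCentralSeries_succ, commutator_comm]
      exact commutator_mem_commutator (mem_top y) hb

end Cfsg.Agent.TwoClassSizes
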