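import Cfsg.Agent.TwoClassSizes.NormalTypes
import Mathlib.Tactic.LinearCombination
import Mathlib.Tactic.Linarith

/-!
The counting argument, and nilpotency.
-/

set_option autoImplicit false
set_option linter.unusedSectionVars false

namespace Cfsg.Agent.TwoClassSizes.Normal

open Subgroup

universe u

variable {G : Type u} [Group G] [Finite G]

local notation "C[" x "]" => Subgroup.centralizer ({x} : Set _)

variable {r : ℕ} {R N : Subgroup G} {b : ℕ}

/-- Sylow subgroups of a subgroup containing one. -/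
theorem card_sylow_le [Fact r.Prime] {M : Subgroup G} (S₀ : Sylow r G) (hS₀ : (S₀ : Subgroup G) ≤ M) :
    Nat.card {S : Sylow r G // (S : Subgroup G) ≤ M} = Nat.card (Sylow r M) := by
  refine Nat.card_congr (Equiv.ofBijective (fun S => S.1.subtype S.2) ⟨?_, ?_⟩)
  · exact fun S T hST => Subtype.ext (Sylow.subtype_injective hST)
  · intro T
    obtain ⟨m, hm⟩ := MulAction.exists_smul_eq M (S₀.subtype hS₀) T
    exact ⟨⟨(m : G) • S₀, Sylow.smul_le hS₀ m⟩, (Sylow.smul_subtype hS₀ m).symm.trans hm⟩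

theorem card_sup_center {T : Subgroup G} (hT : T ≤ R) (hR : R ≤ N)
    (hZ : center G ⊓ R ≤ T) :
    Nat.card (T ⊔ center G ⊓ N : Subgroup G) * Nat.card (center G ⊓ R : Subgroup G) =
      Nat.card (center G ⊓ N : Subgroup G) * Nat.card T := by
  have := center_inf_normal (G := G) N
  have h1 := card_inf_mul (center G ⊓ N) (T ⊔ center G ⊓ N)
  rw [inf_eq_left.2 le_sup_right] at h1
  have h2 := card_inf_mul (center G ⊓ N) T
  rw [show (center G ⊓ N) ⊓ T = center G ⊓ R from
    le_antisymm (le_inf (inf_le_left.trans inf_le_left) (inf_le_right.trans hT))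
      (le_inf (le_inf inf_le_left (inf_le_right.trans hR)) hZ)] at h2
  rw [← h1, relIndex_sup_right, ← h2]
  ring

namespace Ctx

theorem transport (c : Ctx r R N b) [Fact r.Prime] (S : Sylow r G) : Ctx r (S : Subgroup G) N b := by
  obtain ⟨R₀, hR₀⟩ := c.hyp.sylow
  have hcard : Nat.card (S : Subgroup G) = Nat.card R := by
    rw [← hR₀, S.card_eq_multiplicity, R₀.card_eq_multiplicity]
  refine ⟨⟨c.hyp.prime, c.hyp.normal, ⟨S, rfl⟩,
    fun s hs => c.hyp.mem_of_rel (orderOf_of_mem_pgroup S.isPGroup' hs), fun hS => ?_, c.hyp.card_eq⟩,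
    c.bound_eq, hcard ▸ c.lt, c.exists_prime'⟩
  obtain ⟨g, hg⟩ := MulAction.exists_smul_eq G S R₀
  refine c.hyp.noncentral fun x hx => ?_
  rw [← hR₀, ← hg, Sylow.coe_subgroup_smul] at hx
  obtain ⟨s, hs, rfl⟩ := hx
  exact (inferInstance : (center G).Normal).conj_mem s (hS hs) g

theorem card_center_inf (c : Ctx r R N b) [Fact r.Prime] (S : Sylow r G) :
    Nat.card (center G ⊓ (S : Subgroup G) : Subgroup G) = Nat.card (center G ⊓ R : Subgroup G) := by
  obtain ⟨w, hw, hwZ⟩ := SetLike.not_le_iff_exists.1 c.hyp.noncentral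
  obtain ⟨v, hv, hvZ⟩ := SetLike.not_le_iff_exists.1 (c.transport S).hyp.noncentral
  exact Nat.eq_of_mul_eq_mul_right c.hyp.prime.pos
    (((c.transport S).full hv hvZ).2.1.symm.trans (c.full hw hwZ).2.1)

theorem exists_sylow_mem (c : Ctx r R N b) [Fact r.Prime] {w : G} (hw : ∃ k, orderOf w ∣ r ^ k) :
    ∃ S : Sylow r G, w ∈ (S : Subgroup G) ∧ Ctx r (S : Subgroup G) N b := by
  obtain ⟨S, hS⟩ := (isPGroup_zpowers hw).exists_le_sylow
  exact ⟨S, hS (mem_zpowers w), c.transport S⟩

theorem exists_coprime' (c : Ctx r R N b) [Fact r.Prime] {w : G} (hwR : w ∈ R) (hw : w ∉ center G) :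
    ∃ y ∈ N, y ∈ C[w] ∧ y ∉ center G ∧ (orderOf y).Coprime r :=
  c.exists_coprime hwR hw (c.structure_sylow.2 w hwR)

theorem cent_le (c : Ctx r R N b) [Fact r.Prime] {v : G} (hvN : v ∈ N) (hv : v ∉ center G) :
    N ⊓ C[v] ≤ centralizer (C[v] : Set G) := by
  obtain ⟨w, hwr, hwZ, hvw⟩ := c.hyp.exists_component hvN hv
  obtain ⟨S, hwS, cS⟩ := c.exists_sylow_mem hwr
  obtain ⟨y, hyN, hyw, hyZ, hyr⟩ := cS.exists_coprime' hwS hwZ
  rw [hvw]
  exact (c.hyp.centralizes hyN hwr hyr hwZ hyZ (mem_cent.1 hyw).symm).2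

theorem eq_of_mem (c : Ctx r R N b) [Fact r.Prime] {v u : G} (hvN : v ∈ N) (hv : v ∉ center G)
    (hu : u ∈ N ⊓ C[v]) (huZ : u ∉ center G) : C[u] = C[v] :=
  c.hyp.eq_of_mem_cent_cent hvN hu.1 hv huZ (c.cent_le hvN hv hu)

/-- The `r`-elements in a maximal abelian subgroup. -/
theorem card_rel (c : Ctx r R N b) [Fact r.Prime] {w : G} (hwR : w ∈ R) (hw : w ∉ center G) :
    Nat.card {a : G // a ∈ N ⊓ C[w] ∧ (∃ k, orderOf a ∣ r ^ k) ∧ a ∉ center G} +
      Nat.card (center G ⊓ R : Subgroup G) = b := by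
  obtain ⟨hcard, -, -, -⟩ := c.full hwR hw
  rw [← hcard, ← Nat.card_sum]
  classical
  refine Nat.card_congr ((Equiv.sumCongr ?_ ?_).trans
    (Equiv.sumCompl (fun a : (C[w] ⊓ R : Subgroup G) => (a : G) ∉ center G)))
  · exact {
      toFun := fun a => ⟨⟨a, c.mem_R_of_rel hwR hw a.2.2.1 a.2.1.2⟩, a.2.2.2⟩
      invFun := fun a => ⟨a.1, ⟨c.hyp.le a.1.2.2, a.1.2.1⟩,
        orderOf_of_mem_pgroup c.hyp.isPGroup a.1.2.2, a.2⟩
      left_inv := fun a => rfl
      right_inv := fun a => rfl }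
  · exact {
      toFun := fun a => ⟨⟨a, center_le_centralizer_singleton w a.2.1, a.2.2⟩, not_not.2 a.2.1⟩
      invFun := fun a => ⟨a.1, not_not.1 a.2, a.1.2.2⟩
      left_inv := fun a => rfl
      right_inv := fun a => rfl }

/-- The Sylow subgroups containing an element. -/
theorem card_sylow_mem (c : Ctx r R N b) [Fact r.Prime] {w : G} (hwR : w ∈ R) (hw : w ∉ center G) :
    Nat.card {S : Sylow r G // w ∈ (S : Subgroup G)} * (r * Nat.card (center G ⊓ N : Subgroup G)) =
        Nat.card (N ⊓ C[w] : Subgroup G) ∧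
      2 ≤ Nat.card {S : Sylow r G // w ∈ (S : Subgroup G)} := by
  have h := c.hyp
  obtain ⟨hcard, hb, hcent, hwp⟩ := c.full hwR hw
  obtain ⟨hRcard, hM⟩ := c.structure_sylow
  obtain ⟨y, hyN, hyw, hyZ, hyr⟩ := c.exists_coprime' hwR hw
  have hwr := orderOf_of_mem_pgroup h.isPGroup hwR
  obtain ⟨R₀, hR₀⟩ := h.sylow
  set M := modCent N w with hMdef
  have hRM : (R₀ : Subgroup G) ≤ M := hR₀ ▸ hM w hwR
  have hiff : ∀ S : Sylow r G, w ∈ (S : Subgroup G) ↔ (S : Subgroup G) ≤ M := by
    refine fun S => ⟨fun hwS => (c.transport S).structure_sylow.2 w hwS, fun hS => ?_⟩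
    obtain ⟨m, hm⟩ := MulAction.exists_smul_eq M (S.subtype hS) (R₀.subtype hRM)
    have hz := (comm N w m).2
    have hzr : ∃ k, orderOf ((comm N w m : center G) : G) ∣ r ^ k := by
      obtain ⟨k, hk⟩ := hwr
      exact ⟨k, (Subgroup.orderOf_coe _).dvd.trans
        ((orderOf_dvd_of_pow_eq_one (comm_pow_orderOf m)).trans hk)⟩
    have hzR : ((comm N w m : center G) : G) ∈ R := by
      have : (zpowers ((comm N w m : center G) : G)).Normal := ⟨fun z hz' g => by
        rw [mem_center_iff.1 (zpowers_le.2 hz hz') g, mul_inv_cancel_right]; exact hz'⟩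
      exact hR₀ ▸ (isPGroup_zpowers hzr).le_sylow_of_normal R₀ (mem_zpowers _)
    have h1 : (m : G) * w * (m : G)⁻¹ ∈ R := by rw [conj_eq]; exact mul_mem hwR hzR
    have h2 : m * (⟨w, inf_cent_le_modCent ⟨h.le hwR, self_mem_cent w⟩⟩ : M) * m⁻¹ ∈
        (R₀.subtype hRM : Subgroup M) := hR₀.symm ▸ h1
    rw [← hm, Sylow.coe_subgroup_smul] at h2
    obtain ⟨s, hs, hse⟩ := h2
    have h3 : s = ⟨w, inf_cent_le_modCent ⟨h.le hwR, self_mem_cent w⟩⟩ := (MulAut.conj m).injective hse
    rw [h3] at hs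
    exact hs
  rw [Nat.card_congr (Equiv.subtypeEquivRight hiff), card_sylow_le R₀ hRM]
  have hidx : C[w].relIndex M = r := by
    refine le_antisymm (h.relIndex_le hwr hw hwp hyN hyZ hyr hyw le_rfl) ?_
    have h1 := card_inf_mul C[w] R
    rw [hcard, hRcard] at h1
    rw [← Nat.eq_of_mul_eq_mul_left (hcard ▸ Nat.card_pos) h1]
    exact relIndex_le_of_le_right (hM w hwR) index_ne_zero_of_finite
  have hA : C[w] ⊓ M = N ⊓ C[w] := le_antisymm (le_inf (inf_le_right.trans modCent_le) inf_le_left)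
    (le_inf inf_le_right inf_cent_le_modCent)
  have hMcard : Nat.card (N ⊓ C[w] : Subgroup G) * r = Nat.card M := by
    rw [← hidx, ← hA]; exact card_inf_mul _ _
  set Zn := center G ⊓ N with hZn
  have hnorm : normalizer ((R₀.subtype hRM : Sylow r M) : Set M) = (R ⊔ Zn).subgroupOf M := by
    refine le_antisymm (fun g hg => ?_) fun g hg => ?_
    · have hnR : ∀ e ∈ zpowers (g : G), e ∈ normalizer (R : Set G) := fun e he => by
        obtain ⟨i, rfl⟩ := mem_zpowers_iff.1 he
        refine zpow_mem (mem_normalizer_iff.2 fun u => ?_) i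
        by_cases huM : u ∈ M
        · have := mem_normalizer_iff.1 hg ⟨u, huM⟩
          rw [← hR₀]
          exact this
        · constructor
          · exact fun hu => absurd (hM w hwR hu) huM
          · intro hu
            refine absurd ?_ huM
            have := M.mul_mem (M.mul_mem (M.inv_mem g.2) (hM w hwR hu)) g.2
            simpa [mul_assoc] using this
      refine mem_subgroupOf.2 (mem_of_parts (r := r) (fun a ha hak => mem_sup_left ?_)
        fun d hd hdr => mem_sup_right ?_)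
      · have hp : IsPGroup r (zpowers a ⊔ R : Subgroup G) :=
          (isPGroup_zpowers hak).to_sup_of_normal_right' h.isPGroup (zpowers_le.2 (hnR a ha))
        rw [← hR₀] at hp ⊢
        exact (R₀.is_maximal' hp le_sup_right).le (mem_sup_left (mem_zpowers a))
      · have hdM : d ∈ M := (zpowers_le.2 g.2) hd
        have hdC := mem_cent_of_coprime hwr hdM hdr
        refine ⟨by_contra fun hdZ => c.hyp.not_le_cent c.bound_eq c.lt (modCent_le hdM) hdZ
          fun u hu => mem_cent.2 ?_, modCent_le hdM⟩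
        exact (commute_of_normalizes h.isPGroup (hM w hwR) hdC hdr (hnR d hd)
          (fun s hs hsC => mem_centralizer_iff.1 (hcent ⟨hsC, hs⟩) d hdC) hu).symm
    · have hle : R ⊔ Zn ≤ normalizer (R : Set G) := sup_le le_normalizer
        (inf_le_left.trans ((center_le_centralizer _).trans (centralizer_le_normalizer _)))
      refine mem_normalizer_iff.2 fun u => ?_
      have h1 := mem_normalizer_iff.1 (hle (mem_subgroupOf.1 hg)) u
      rw [← hR₀] at h1
      exact h1
  have hRZ : R ⊔ Zn ≤ M := sup_le (hM w hwR)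
    ((le_inf inf_le_right (inf_le_left.trans (center_le_centralizer_singleton w))).trans inf_cent_le_modCent)
  have hzr0 : 0 < Nat.card (center G ⊓ R : Subgroup G) := Nat.card_pos
  have hRZcard : Nat.card (R ⊔ Zn : Subgroup G) = Nat.card Zn * (r * r) := by
    refine Nat.eq_of_mul_eq_mul_right hzr0 ?_
    rw [card_sup_center le_rfl h.le inf_le_right, hRcard, hb]
    ring
  have hsyl : Nat.card (Sylow r M) * (r * Nat.card Zn) = Nat.card (N ⊓ C[w] : Subgroup G) := by
    refine Nat.eq_of_mul_eq_mul_right h.prime.pos ?_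
    rw [hMcard, ← index_mul_card (normalizer ((R₀.subtype hRM : Sylow r M) : Set M)),
      ← (R₀.subtype hRM).card_eq_index_normalizer, hnorm,
      Nat.card_congr (subgroupOfEquivOfLe hRZ).toEquiv, hRZcard]
    ring
  refine ⟨hsyl, ?_⟩
  by_contra hlt
  have h1 : Nat.card (Sylow r M) = 1 := le_antisymm (by omega) Nat.card_pos
  rw [h1, one_mul] at hsyl
  have hT : C[w] ⊓ R ⊔ Zn ≤ N ⊓ C[w] := sup_le (le_inf (inf_le_right.trans h.le) inf_le_left)
    (le_inf inf_le_right (inf_le_left.trans (center_le_centralizer_singleton w)))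
  have hTcard : Nat.card (C[w] ⊓ R ⊔ Zn : Subgroup G) = r * Nat.card Zn := by
    refine Nat.eq_of_mul_eq_mul_right hzr0 ?_
    rw [card_sup_center inf_le_right h.le (le_inf (inf_le_left.trans
      (center_le_centralizer_singleton w)) inf_le_right), hcard, hb]
    ring
  have hyT := (eq_of_le_of_card_ge hT (by rw [hTcard, hsyl])).ge ⟨hyN, hyw⟩
  have := center_inf_normal (G := G) N
  obtain ⟨τ, hτ, d, hd, rfl⟩ := mem_sup_of_normal_right.1 hyT
  obtain ⟨k, hk⟩ := orderOf_of_mem_pgroup h.isPGroup hτ.2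
  obtain ⟨m, hm⟩ := exists_pow_eq_self_of_coprime (x := τ * d) (n := r ^ k) ((hyr.symm).pow_left k)
  have hc : Commute τ d := mem_center_iff.1 hd.1 τ
  apply hyZ
  rw [← hm, hc.mul_pow, orderOf_dvd_iff_pow_eq_one.1 hk, one_mul]
  exact pow_mem (pow_mem hd.1 _) _

theorem contradiction (c : Ctx r R N b) [Fact r.Prime] : False := by
  classical
  have := Fintype.ofFinite G
  have := Fintype.ofFinite (Sylow r G)
  obtain ⟨R₀, hR₀⟩ := c.hyp.sylow
  set Zn := center G ⊓ N
  set z := Nat.card Zn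
  set zr := Nat.card (center G ⊓ R : Subgroup G)
  set nR := Nat.card (Sylow r G)
  obtain ⟨w₀, hw₀, hw₀Z⟩ := SetLike.not_le_iff_exists.1 c.hyp.noncentral
  have hb : b = zr * r := (c.full hw₀ hw₀Z).2.1
  have hRcard : Nat.card R = b * r := c.structure_sylow.1
  let W : Finset G := Finset.univ.filter fun a => (∃ k, orderOf a ∣ r ^ k) ∧ a ∉ center G
  let V : Finset G := Finset.univ.filter fun v => v ∈ N ∧ v ∉ center G
  let f : G → Subgroup G := fun v => N ⊓ C[v]
  let 𝒜 := W.image f
  have hfib : ∀ v ∈ N, v ∉ center G → ∀ u ∈ N, u ∉ center G → (f u = f v ↔ u ∈ f v) := by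
    intro v hv hvZ u hu huZ
    refine ⟨fun e => e ▸ ⟨hu, self_mem_cent u⟩, fun hmem => ?_⟩
    show N ⊓ C[u] = N ⊓ C[v]
    rw [c.eq_of_mem hv hvZ hmem huZ]
  -- partition of the noncentral elements
  have hV : ∀ v ∈ V, f v ∈ 𝒜 := fun v hv => by
    obtain ⟨-, hvN, hvZ⟩ := Finset.mem_filter.1 hv
    obtain ⟨w, hwr, hwZ, hvw⟩ := c.hyp.exists_component hvN hvZ
    refine Finset.mem_image.2 ⟨w, Finset.mem_filter.2 ⟨Finset.mem_univ _, hwr, hwZ⟩, ?_⟩
    show N ⊓ C[w] = N ⊓ C[v]
    rw [hvw]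
  have hsplit : ∀ K : Subgroup G, K ≤ N → Zn ≤ K →
      (V.filter (· ∈ K)).card + z = Nat.card K := by
    intro K hK hZK
    rw [show z = (Finset.univ.filter (fun v : G => v ∈ Zn)).card from
      (Nat.card_eq_fintype_card.trans (Fintype.card_subtype _)),
      ← Finset.card_union_of_disjoint, show Nat.card K = (Finset.univ.filter (· ∈ K)).card from
      (Nat.card_eq_fintype_card.trans (Fintype.card_subtype _))]
    · congr 1
      ext v
      simp only [V, Finset.mem_union, Finset.mem_filter, Finset.mem_univ, true_and]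
      constructor
      · rintro (⟨-, h⟩ | h)
        · exact h
        · exact hZK h
      · intro hv
        by_cases hvZ : v ∈ center G
        · exact Or.inr ⟨hvZ, hK hv⟩
        · exact Or.inl ⟨⟨hK hv, hvZ⟩, hv⟩
    · rw [Finset.disjoint_left]
      intro v hv hv'
      simp only [V, Finset.mem_filter, Finset.mem_univ, true_and] at hv hv'
      exact hv.1.2 hv'.1
  have e1 : Nat.card N + 𝒜.card * z = z + ∑ A ∈ 𝒜, Nat.card A := by
    have hN := hsplit N le_rfl inf_le_right
    rw [Finset.filter_true_of_mem (fun v hv => ((Finset.mem_filter.1 hv).2).1),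
      Finset.card_eq_sum_card_fiberwise hV] at hN
    rw [← hN, ← smul_eq_mul 𝒜.card z, ← Finset.sum_const, add_right_comm, ← Finset.sum_add_distrib,
      add_comm]
    congr 1
    refine Finset.sum_congr rfl fun A hA => ?_
    obtain ⟨w, hw, rfl⟩ := Finset.mem_image.1 hA
    obtain ⟨-, hwr, hwZ⟩ := Finset.mem_filter.1 hw
    rw [← hsplit (f w) inf_le_left
      (le_inf inf_le_right (inf_le_left.trans (center_le_centralizer_singleton w)))]
    congr 2
    refine Finset.filter_congr fun v hv => ?_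
    obtain ⟨-, hvN, hvZ⟩ := Finset.mem_filter.1 hv
    exact hfib w (c.hyp.mem_of_rel hwr) hwZ v hvN hvZ
  -- double counting
  have e2 : (b - zr) * ∑ A ∈ 𝒜, Nat.card A = r * z * (nR * (b * r - zr)) := by
    have h1 : ∀ S : Sylow r G, (W.filter fun a => a ∈ (S : Subgroup G)).card = b * r - zr := by
      intro S
      have hcS : Nat.card (S : Subgroup G) = b * r := by
        rw [← hRcard, ← hR₀, S.card_eq_multiplicity, R₀.card_eq_multiplicity]
      have hz : Nat.card (center G ⊓ (S : Subgroup G) : Subgroup G) = zr := c.card_center_inf S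
      rw [← hcS, ← hz, Nat.card_eq_fintype_card, Nat.card_eq_fintype_card,
        Fintype.card_subtype, Fintype.card_subtype, ← Finset.card_sdiff_of_subset]
      · congr 1
        ext a
        simp only [W, Finset.mem_sdiff, Finset.mem_filter, Finset.mem_univ, true_and, mem_inf]
        exact ⟨fun ha => ⟨ha.2, fun h => ha.1.2 h.1⟩, fun ha =>
          ⟨⟨orderOf_of_mem_pgroup S.isPGroup' ha.1, fun h => ha.2 ⟨h, ha.1⟩⟩, ha.1⟩⟩
      · intro a
        simp only [Finset.mem_filter, Finset.mem_univ, true_and, mem_inf]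
        exact fun h => h.2
    have h2 : ∀ w ∈ W, (Finset.univ.filter fun S : Sylow r G => w ∈ (S : Subgroup G)).card * (r * z) =
        Nat.card (f w) := by
      intro w hw
      obtain ⟨-, hwr, hwZ⟩ := Finset.mem_filter.1 hw
      obtain ⟨S, hwS, cS⟩ := c.exists_sylow_mem hwr
      rw [← (cS.card_sylow_mem hwS hwZ).1, Nat.card_eq_fintype_card, Fintype.card_subtype]
    calc (b - zr) * ∑ A ∈ 𝒜, Nat.card A
        = ∑ w ∈ W, Nat.card (f w) := by
          rw [Finset.mul_sum, ← Finset.sum_fiberwise_of_maps_to (g := f)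
            (fun w hw => Finset.mem_image_of_mem f hw)]
          refine Finset.sum_congr rfl fun A hA => ?_
          obtain ⟨w, hw, rfl⟩ := Finset.mem_image.1 hA
          obtain ⟨-, hwr, hwZ⟩ := Finset.mem_filter.1 hw
          obtain ⟨S, hwS, cS⟩ := c.exists_sylow_mem hwr
          rw [Finset.sum_congr rfl (fun u hu => by rw [(Finset.mem_filter.1 hu).2]),
            Finset.sum_const, smul_eq_mul]
          congr 1
          have h3 := cS.card_rel hwS hwZ
          rw [c.card_center_inf S, Nat.card_eq_fintype_card, Fintype.card_subtype] at h3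
          refine Nat.sub_eq_of_eq_add (h3.symm.trans ?_)
          congr 2
          ext u
          simp only [W, Finset.mem_filter, Finset.mem_univ, true_and]
          exact ⟨fun hu => ⟨⟨hu.2.1, hu.2.2⟩, (hfib w (c.hyp.mem_of_rel hwr) hwZ u hu.1.1 hu.2.2).2 hu.1⟩,
            fun hu => ⟨(hfib w (c.hyp.mem_of_rel hwr) hwZ u (c.hyp.mem_of_rel hu.1.1) hu.1.2).1 hu.2,
              hu.1⟩⟩
      _ = ∑ w ∈ W, (Finset.univ.filter fun S : Sylow r G => w ∈ (S : Subgroup G)).card * (r * z) :=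
          (Finset.sum_congr rfl h2).symm
      _ = (∑ S : Sylow r G, (W.filter fun a => a ∈ (S : Subgroup G)).card) * (r * z) := by
          rw [← Finset.sum_mul]
          congr 1
          simp only [Finset.card_filter]
          exact Finset.sum_comm
      _ = r * z * (nR * (b * r - zr)) := by
          rw [Finset.sum_congr rfl (fun S _ => h1 S), Finset.sum_const, smul_eq_mul, Finset.card_univ,
            ← Nat.card_eq_fintype_card]
          ring
  -- the arithmetic
  have hcases : 2 * r * z * 𝒜.card ≤ ∑ A ∈ 𝒜, Nat.card A := by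
    rw [mul_comm, ← smul_eq_mul, ← Finset.sum_const]
    refine Finset.sum_le_sum fun A hA => ?_
    obtain ⟨w, hw, rfl⟩ := Finset.mem_image.1 hA
    obtain ⟨-, hwr, hwZ⟩ := Finset.mem_filter.1 hw
    obtain ⟨S, hwS, cS⟩ := c.exists_sylow_mem hwr
    obtain ⟨h1, h2⟩ := cS.card_sylow_mem hwS hwZ
    rw [← h1, mul_assoc 2]
    exact Nat.mul_le_mul_right _ h2
  obtain ⟨d, hd⟩ : nR * (z * (r * r)) ∣ Nat.card N := by
    have hle : R ⊔ Zn ≤ N := sup_le c.hyp.le inf_le_right
    have hR₀N : (R₀ : Subgroup G) ≤ N := hR₀ ▸ c.hyp.le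
    have hnR : nR = Nat.card (Sylow r N) := by
      rw [← card_sylow_le R₀ hR₀N]
      exact (Nat.card_congr (Equiv.subtypeUnivEquiv fun S => (c.transport S).hyp.le)).symm
    rw [hnR, ← index_mul_card (normalizer ((R₀.subtype hR₀N : Sylow r N) : Set N)),
      ← (R₀.subtype hR₀N).card_eq_index_normalizer]
    refine Nat.mul_dvd_mul_left _ ?_
    have hzr0 : 0 < Nat.card (center G ⊓ R : Subgroup G) := Nat.card_pos
    have hcard : Nat.card (R ⊔ Zn : Subgroup G) = z * (r * r) := by
      refine Nat.eq_of_mul_eq_mul_right hzr0 ?_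
      rw [card_sup_center le_rfl c.hyp.le inf_le_right, hRcard, hb]
      ring
    rw [← hcard, ← Nat.card_congr (subgroupOfEquivOfLe hle).toEquiv]
    refine card_dvd_of_le fun g hg => mem_normalizer_iff.2 fun u => ?_
    have hn : R ⊔ Zn ≤ normalizer (R : Set G) := sup_le le_normalizer
      (inf_le_left.trans ((center_le_centralizer _).trans (centralizer_le_normalizer _)))
    have h1 := mem_normalizer_iff.1 (hn (mem_subgroupOf.1 hg)) u
    rw [← hR₀] at h1
    exact h1
  have hr := c.hyp.prime.two_le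
  obtain ⟨q, rfl⟩ : ∃ q, r = q + 1 := ⟨r - 1, by omega⟩
  set σ := ∑ A ∈ 𝒜, Nat.card A
  have hz0 : 0 < z := Nat.card_pos
  have hzr0 : 0 < zr := Nat.card_pos
  have hn0 : 0 < nR := Nat.card_pos
  have hσ : σ = (q + 1) * z * nR * (q + 2) := by
    have h1 : b - zr = zr * q := by rw [hb, mul_add, mul_one, Nat.add_sub_cancel]
    have h2 : b * (q + 1) - zr = zr * q * (q + 2) := by
      refine Nat.sub_eq_of_eq_add ?_
      rw [hb]; ring
    rw [h1, h2] at e2
    refine Nat.eq_of_mul_eq_mul_left (Nat.mul_pos hzr0 (show 0 < q by omega)) ?_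
    rw [e2]; ring
  rw [hσ, hd] at e1
  rw [hσ] at hcases
  have k1 : nR * ((q + 1) * (q + 1)) * d + 𝒜.card = 1 + (q + 1) * nR * (q + 2) :=
    Nat.eq_of_mul_eq_mul_left hz0 (by linear_combination e1)
  have k2 : 2 * 𝒜.card ≤ nR * (q + 2) := by
    refine Nat.le_of_mul_le_mul_left ?_ (Nat.mul_pos (show 0 < q + 1 by omega) hz0)
    calc (q + 1) * z * (2 * 𝒜.card) = 2 * (q + 1) * z * 𝒜.card := by ring
      _ ≤ _ := hcases
      _ = _ := by ring
  rcases Nat.lt_trichotomy d 1 with h | h | h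
  · simp only [Nat.lt_one_iff.1 h, mul_zero, zero_add] at k1
    nlinarith
  · subst h; nlinarith
  · nlinarith [Nat.mul_le_mul_left (nR * ((q + 1) * (q + 1))) h]

end Ctx

/-- A normal subgroup containing a noncentral Sylow subgroup, whose elements have only two class
sizes, is nilpotent. -/
theorem Hyp.isNilpotent (h : Hyp r R N) : Group.IsNilpotent N := by
  have : Fact r.Prime := ⟨h.prime⟩
  by_cases hy : ∃ y ∈ N, y ∉ center G ∧ (orderOf y).Coprime r
  swap
  · have hp : IsPGroup r (N ⧸ (center G).subgroupOf N) := by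
      rw [isPGroup_iff_orderOf_dvd_pow]
      intro q
      obtain ⟨⟨g, hg⟩, rfl⟩ := QuotientGroup.mk_surjective q
      obtain ⟨a, d, rfl, -, ha, hd, ⟨k, hk⟩, hdr⟩ :=
        Fusion.exists_pPart_mul (p := r) g (isOfFinOrder_of_finite g)
      have haN : a ∈ N := (zpowers_le.2 hg) ha
      have hdZ : d ∈ center G :=
        by_contra fun hdZ => hy ⟨d, (zpowers_le.2 hg) hd, hdZ, hdr⟩
      refine ⟨k, ?_⟩
      have e : (QuotientGroup.mk (⟨a * d, hg⟩ : N) : N ⧸ (center G).subgroupOf N) =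
          QuotientGroup.mk (⟨a, haN⟩ : N) := by
        rw [QuotientGroup.eq, mem_subgroupOf]
        simpa [mul_assoc] using inv_mem hdZ
      rw [e]
      exact ((orderOf_map_dvd (QuotientGroup.mk' _) (⟨a, haN⟩ : N)).trans
        (Subgroup.orderOf_mk a haN).dvd).trans hk
    have := hp.isNilpotent
    exact Subgroup.isNilpotent_of_ker_le_center (QuotientGroup.mk' ((center G).subgroupOf N)) (by
      rw [QuotientGroup.ker_mk']
      exact fun z hz => mem_center_iff.2 fun g => Subtype.ext (mem_center_iff.1 hz g))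
  obtain ⟨y, hyN, hyZ, hyr⟩ := hy
  have hb : ∀ v ∈ N, v ∉ center G → bound r v = bound r y := fun v hv hvZ =>
    h.bound_eq hv hyN hvZ hyZ
  rcases lt_or_ge (bound r y) (Nat.card R) with hlt | hge
  · exact (Ctx.contradiction ⟨h, hb, hlt, y, hyN, hyZ, hyr⟩).elim
  -- a noncentral element centralizes a Sylow subgroup
  have full : ∀ v ∈ N, v ∉ center G → ∃ g ∈ N, ∃ w ∈ R, w ∉ center G ∧
      C[g * v * g⁻¹] = C[w] ∧ R ≤ C[w] := by
    intro v hv hvZ
    obtain ⟨g, hg, w, hw, hwZ, e, hc⟩ := h.exists_full hv hvZ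
    rw [hb v hv hvZ] at hc
    exact ⟨g, hg, w, hw, hwZ, e, fun u hu =>
      ((eq_of_le_of_card_ge inf_le_right (by omega) : C[w] ⊓ R = R).ge hu).1⟩
  obtain ⟨g, hg, w, hw, hwZ, e, hRw⟩ := full y hyN hyZ
  have hA := (h.centralizes (h.normal.conj_mem y hyN g) (orderOf_of_mem_pgroup h.isPGroup hw)
    (by rw [orderOf_conj]; exact hyr) hwZ (fun hz => hyZ (conj_mem_center.1 hz))
    (mem_cent.1 (e ▸ self_mem_cent (g * y * g⁻¹) : g * y * g⁻¹ ∈ C[w])).symm).2
  by_cases htop : (N ⊓ C[w]).subgroupOf N = ⊤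
  · have hle : N ≤ centralizer (N : Set G) := fun u hu =>
      mem_centralizer_iff.2 fun v hv =>
        mem_centralizer_iff.1 (hA ((subgroupOf_eq_top.1 htop) hu)) v (subgroupOf_eq_top.1 htop hv).2
    let instN : CommGroup N := { (inferInstance : Group N) with
      mul_comm := fun a b => Subtype.ext (mem_centralizer_iff.1 (hle b.2) a a.2) }
    infer_instance
  obtain ⟨⟨v, hvN⟩, hv⟩ := exists_not_mem_conj htop
  have hvZ : v ∉ center G := fun hz => hv 1
    (by simpa [mem_subgroupOf] using center_le_centralizer_singleton w hz)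
  obtain ⟨g', hg', w', hw', hw'Z, e', -⟩ := full v hvN hvZ
  have hCw' := h.eq_of_mem_cent_cent (h.le hw) (h.le hw') hwZ hw'Z (hA ⟨h.le hw', hRw hw'⟩)
  refine (hv ⟨g'⁻¹, inv_mem hg'⟩ ?_).elim
  rw [mem_subgroupOf]
  simp only [Subgroup.coe_mul, InvMemClass.coe_inv, inv_inv]
  exact ⟨h.normal.conj_mem v hvN g', hCw' ▸ e' ▸ self_mem_cent _⟩

end Cfsg.Agent.TwoClassSizes.Normal
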