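import Cfsg.Agent.TwoClassSizes.Main

/-!
A normal subgroup containing a Sylow subgroup whose elements have only two class sizes in the
ambient group: the centralizers.
-/

set_option autoImplicit false
set_option linter.unusedSectionVars false

namespace Cfsg.Agent.TwoClassSizes.Normal

open Subgroup
open scoped Pointwise

universe u

variable {G : Type u} [Group G] [Finite G]

local notation "C[" x "]" => Subgroup.centralizer ({x} : Set _)

/-- The standing hypothesis. -/
structure Hyp (r : ℕ) (R : Subgroup G) (N : Subgroup G) : Prop where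
  prime : r.Prime
  normal : N.Normal
  sylow : ∃ S : Sylow r G, (S : Subgroup G) = R
  le : R ≤ N
  noncentral : ¬ R ≤ center G
  card_eq : ∀ x ∈ N, ∀ y ∈ N, x ∉ center G → y ∉ center G →
    Nat.card (centralizer ({x} : Set G)) = Nat.card (centralizer ({y} : Set G))

variable {r : ℕ} {R N : Subgroup G}

theorem mem_cent {x g : G} : g ∈ C[x] ↔ g * x = x * g := mem_centralizer_singleton_iff

theorem self_mem_cent (x : G) : x ∈ C[x] := mem_cent.2 rfl

theorem mem_cent_symm {x g : G} (h : g ∈ C[x]) : x ∈ C[g] := mem_cent.2 (mem_cent.1 h).symm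

theorem cent_le_of_mem_cent_cent {x z : G} (hz : z ∈ centralizer (C[x] : Set G)) : C[x] ≤ C[z] :=
  fun g hg => mem_cent.2 (mem_centralizer_iff.1 hz g hg)

theorem mem_cent_conj {g x u : G} : g * u * g⁻¹ ∈ C[g * x * g⁻¹] ↔ u ∈ C[x] := by
  simp only [mem_cent]
  constructor
  · intro h
    refine mul_right_cancel (b := g⁻¹) (mul_left_cancel (a := g) ?_)
    calc g * (u * x * g⁻¹) = g * u * g⁻¹ * (g * x * g⁻¹) := by group
      _ = g * x * g⁻¹ * (g * u * g⁻¹) := h
      _ = g * (x * u * g⁻¹) := by group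
  · intro h
    calc g * u * g⁻¹ * (g * x * g⁻¹) = g * (u * x) * g⁻¹ := by group
      _ = g * (x * u) * g⁻¹ := by rw [h]
      _ = g * x * g⁻¹ * (g * u * g⁻¹) := by group

theorem conj_mem_center {g x : G} : g * x * g⁻¹ ∈ center G ↔ x ∈ center G :=
  ⟨fun h => by simpa [mul_assoc] using (inferInstance : (center G).Normal).conj_mem _ h g⁻¹,
    fun h => (inferInstance : (center G).Normal).conj_mem _ h g⟩

theorem cent_mul_central {x z : G} (hz : z ∈ center G) : C[x * z] = C[x] := by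
  ext g
  rw [mem_cent, mem_cent, mul_assoc x z g, ← mem_center_iff.1 hz g, ← mul_assoc, ← mul_assoc,
    mul_left_inj]

/-- An element commuting with the parts of `g` is controlled by them. -/
theorem mem_of_parts {K : Subgroup G} {g : G} [Fact r.Prime]
    (ha : ∀ a ∈ zpowers g, (∃ k, orderOf a ∣ r ^ k) → a ∈ K)
    (hb : ∀ b ∈ zpowers g, (orderOf b).Coprime r → b ∈ K) : g ∈ K := by
  obtain ⟨a, b, rfl, -, h1, h2, h3, h4⟩ :=
    Fusion.exists_pPart_mul (p := r) g (isOfFinOrder_of_finite g)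
  exact mul_mem (ha a h1 h3) (hb b h2 h4)

theorem orderOf_conj (g x : G) : orderOf (g * x * g⁻¹) = orderOf x :=
  (MulAut.conj g).orderOf_eq x

theorem coprime_orders [Fact r.Prime] {a b : G} (ha : ∃ k, orderOf a ∣ r ^ k)
    (hb : (orderOf b).Coprime r) : (orderOf a).Coprime (orderOf b) := by
  obtain ⟨k, hk⟩ := ha
  exact (hb.symm.pow_left k).coprime_dvd_left hk

theorem eq_one_of_orders [Fact r.Prime] {a : G} (ha : ∃ k, orderOf a ∣ r ^ k)
    (hb : (orderOf a).Coprime r) : a = 1 :=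
  orderOf_eq_one_iff.1 ((Nat.coprime_self _).1 (coprime_orders ha hb))

theorem isPGroup_zpowers [Fact r.Prime] {a : G} (ha : ∃ k, orderOf a ∣ r ^ k) :
    IsPGroup r (zpowers a) := by
  obtain ⟨k, hk⟩ := ha
  obtain ⟨j, -, hj⟩ := (Nat.dvd_prime_pow Fact.out).1 hk
  exact IsPGroup.of_card (n := j) (by rw [Nat.card_zpowers, hj])

theorem orderOf_of_mem_pgroup [Fact r.Prime] {P : Subgroup G} (hP : IsPGroup r P) {a : G}
    (ha : a ∈ P) : ∃ k, orderOf a ∣ r ^ k := by
  obtain ⟨k, hk⟩ := IsPGroup.iff_orderOf.1 hP ⟨a, ha⟩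
  exact ⟨k, by rw [Subgroup.orderOf_mk] at hk; exact hk.dvd⟩

namespace Hyp

theorem isPGroup (h : Hyp r R N) : IsPGroup r R := by
  obtain ⟨S, rfl⟩ := h.sylow
  exact S.isPGroup'

theorem eq_of_le (h : Hyp r R N) {x y : G} (hxN : x ∈ N) (hyN : y ∈ N) (hx : x ∉ center G)
    (hy : y ∉ center G) (hle : C[x] ≤ C[y]) : C[x] = C[y] :=
  eq_of_le_of_card_ge hle (h.card_eq y hyN x hxN hy hx).le

theorem eq_of_mem_cent_cent (h : Hyp r R N) {x z : G} (hxN : x ∈ N) (hzN : z ∈ N) (hx : x ∉ center G)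
    (hz : z ∉ center G) (hzc : z ∈ centralizer (C[x] : Set G)) : C[z] = C[x] :=
  (h.eq_of_le hxN hzN hx hz (cent_le_of_mem_cent_cent hzc)).symm

theorem eq_of_commute_coprime (h : Hyp r R N) {x y : G} (hxN : x ∈ N) (hyN : y ∈ N)
    (hxy : Commute x y) (hcop : (orderOf x).Coprime (orderOf y)) (hx : x ∉ center G)
    (hy : y ∉ center G) : C[x] = C[y] := by
  have key : ∀ a b : G, Commute a b → (orderOf a).Coprime (orderOf b) → a ∈ zpowers (a * b) := by
    intro a b hab hc
    obtain ⟨m, hm1, hm2⟩ := Nat.chineseRemainder hc 1 0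
    refine ⟨(m : ℤ), ?_⟩
    show (a * b) ^ (m : ℤ) = a
    rw [zpow_natCast, hab.mul_pow, pow_eq_pow_iff_modEq.mpr hm1, pow_eq_pow_iff_modEq.mpr hm2]
    simp
  have hx' : x ∈ zpowers (x * y) := key x y hxy hcop
  have hy' : y ∈ zpowers (x * y) := hxy.eq ▸ key y x hxy.symm hcop.symm
  have hxyN := N.mul_mem hxN hyN
  have hxyZ : x * y ∉ center G := fun hz => hx (zpowers_le.mpr hz hx')
  rw [← h.eq_of_le hxyN hxN hxyZ hx (centralizer_le_of_mem_zpowers hx'),
    ← h.eq_of_le hxyN hyN hxyZ hy (centralizer_le_of_mem_zpowers hy')]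

theorem mem_of_rel (h : Hyp r R N) [Fact r.Prime] {t : G} (ht : ∃ k, orderOf t ∣ r ^ k) : t ∈ N := by
  obtain ⟨S, hS⟩ := h.sylow
  obtain ⟨S', hS'⟩ := (isPGroup_zpowers ht).exists_le_sylow
  obtain ⟨g, hg⟩ := MulAction.exists_smul_eq G S S'
  have h1 := hS' (mem_zpowers t)
  rw [← hg, Sylow.coe_subgroup_smul] at h1
  obtain ⟨s, hs, rfl⟩ := h1
  exact h.normal.conj_mem s (h.le (hS ▸ hs)) g

/-- A noncentral `r`-element and a noncentral `r'`-element that commute. -/
theorem centralizes (h : Hyp r R N) [Fact r.Prime] {x y : G} (hyN : y ∈ N)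
    (hxr : ∃ k, orderOf x ∣ r ^ k) (hyr : (orderOf y).Coprime r) (hx : x ∉ center G)
    (hy : y ∉ center G) (hxy : Commute x y) :
    C[x] = C[y] ∧ N ⊓ C[x] ≤ centralizer (C[x] : Set G) := by
  have hxN := h.mem_of_rel hxr
  have hC := h.eq_of_commute_coprime hxN hyN hxy (coprime_orders hxr hyr) hx hy
  refine ⟨hC, fun g hg => ?_⟩
  have hsub : zpowers g ≤ N ⊓ C[x] := zpowers_le.2 hg
  refine mem_of_parts (r := r) (fun a ha hak => ?_) fun b hb hbk => ?_
  · obtain ⟨haN, haC⟩ := hsub ha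
    by_cases haZ : a ∈ center G
    · exact center_le_centralizer _ haZ
    rw [hC, ← h.eq_of_commute_coprime haN hyN (mem_cent.1 (hC ▸ haC : a ∈ C[y]))
      (coprime_orders hak hyr) haZ hy]
    exact mem_centralizer_iff.2 fun u hu => mem_cent.1 hu
  · obtain ⟨hbN, hbC⟩ := hsub hb
    by_cases hbZ : b ∈ center G
    · exact center_le_centralizer _ hbZ
    rw [h.eq_of_commute_coprime hxN hbN (mem_cent.1 hbC).symm (coprime_orders hxr hbk) hx hbZ]
    exact mem_centralizer_iff.2 fun u hu => mem_cent.1 hu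

theorem exists_rel (h : Hyp r R N) [Fact r.Prime] {y : G} (hyN : y ∈ N) (hy : y ∉ center G) :
    ∃ t : G, (∃ k, orderOf t ∣ r ^ k) ∧ t ∉ center G ∧ t ∈ C[y] := by
  by_contra hcon
  push Not at hcon
  obtain ⟨a, ha, haZ⟩ := SetLike.not_le_iff_exists.1 h.noncentral
  have har := orderOf_of_mem_pgroup h.isPGroup ha
  obtain ⟨W⟩ := (inferInstance : Nonempty (Sylow r C[y]))
  set W' := (W : Subgroup C[y]).map C[y].subtype with hW'
  have hW'Z : W' ≤ center G := fun t ht => by
    by_contra htZ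
    exact hcon t (orderOf_of_mem_pgroup (W.isPGroup'.map _) ht) htZ (map_subtype_le _ ht)
  have : W'.Normal := ⟨fun z hz g => by
    rw [mem_center_iff.1 (hW'Z hz) g, mul_inv_cancel_right]; exact hz⟩
  have hSp : IsPGroup r (W' ⊔ zpowers a : Subgroup G) :=
    (W.isPGroup'.map _).to_sup_of_normal_left (isPGroup_zpowers har)
  have hlt : Nat.card W' < Nat.card (W' ⊔ zpowers a : Subgroup G) :=
    lt_of_le_of_ne (card_le_of_le le_sup_left) fun e =>
      haZ (hW'Z ((eq_of_le_of_card_ge le_sup_left e.ge).ge (mem_sup_right (mem_zpowers a))))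
  obtain ⟨i, hi⟩ := IsPGroup.iff_card.1 hSp
  have hle : W' ⊔ zpowers a ≤ C[a] :=
    sup_le (hW'Z.trans (center_le_centralizer_singleton a)) (zpowers_le.2 (self_mem_cent a))
  have hdvd : r ^ i ∣ Nat.card C[y] := by
    rw [h.card_eq y hyN a (h.le ha) hy haZ, ← hi]; exact card_dvd_of_le hle
  have h2 : Nat.card (W' ⊔ zpowers a : Subgroup G) ∣ Nat.card W' := by
    rw [hi, hW', card_map_of_injective C[y].subtype_injective, W.card_eq_multiplicity]
    exact (Nat.Prime.pow_dvd_iff_dvd_ordProj Fact.out Nat.card_pos.ne').1 hdvd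
  exact absurd (Nat.le_of_dvd Nat.card_pos h2) (by omega)

/-- Every centralizer is the centralizer of an `r`-element. -/
theorem exists_component (h : Hyp r R N) [Fact r.Prime] {v : G} (hvN : v ∈ N) (hv : v ∉ center G) :
    ∃ w : G, (∃ k, orderOf w ∣ r ^ k) ∧ w ∉ center G ∧ C[v] = C[w] := by
  obtain ⟨a, b, rfl, hab, ha, hb, har, hbr⟩ :=
    Fusion.exists_pPart_mul (p := r) v (isOfFinOrder_of_finite v)
  by_cases haZ : a ∈ center G
  · have hbZ : b ∉ center G := fun hb' => hv (mul_mem haZ hb')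
    have hbN : b ∈ N := (zpowers_le.2 hvN) hb
    have e : C[a * b] = C[b] := by rw [hab.eq, cent_mul_central haZ]
    obtain ⟨t, htr, htZ, htC⟩ := h.exists_rel hbN hbZ
    exact ⟨t, htr, htZ, e.trans (h.centralizes hbN htr hbr htZ hbZ (mem_cent.1 htC)).1.symm⟩
  · exact ⟨a, har, haZ, h.eq_of_le hvN (h.mem_of_rel har) hv haZ (centralizer_le_of_mem_zpowers ha)⟩

end Hyp

/-- The common order of the Sylow subgroups of the centralizers. -/
noncomputable def bound (r : ℕ) (x : G) : ℕ :=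
  r ^ (Nat.card (Subgroup.centralizer ({x} : Set G))).factorization r

namespace Hyp

theorem bound_eq (h : Hyp r R N) {x y : G} (hxN : x ∈ N) (hyN : y ∈ N) (hx : x ∉ center G)
    (hy : y ∉ center G) : bound r x = bound r y := by
  rw [bound, bound, h.card_eq x hxN y hyN hx hy]

theorem card_inf_le (h : Hyp r R N) (x : G) : Nat.card (C[x] ⊓ R : Subgroup G) ≤ bound r x := by
  have : Fact r.Prime := ⟨h.prime⟩
  obtain ⟨i, hi⟩ := IsPGroup.iff_card.1 (h.isPGroup.to_le (inf_le_right : C[x] ⊓ R ≤ R))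
  rw [hi, bound]
  refine Nat.le_of_dvd (pow_pos h.prime.pos _) ?_
  refine (Nat.Prime.pow_dvd_iff_dvd_ordProj h.prime Nat.card_pos.ne').1 ?_
  rw [← hi]
  exact card_dvd_of_le inf_le_left

theorem exists_full (h : Hyp r R N) [Fact r.Prime] {v : G} (hvN : v ∈ N) (hv : v ∉ center G) :
    ∃ g ∈ N, ∃ w ∈ R, w ∉ center G ∧ C[g * v * g⁻¹] = C[w] ∧
      Nat.card (C[w] ⊓ R : Subgroup G) = bound r v := by
  obtain ⟨w, hwr, hwZ, hvw⟩ := h.exists_component hvN hv
  have hwN := h.mem_of_rel hwr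
  obtain ⟨W⟩ := (inferInstance : Nonempty (Sylow r C[w]))
  set W' := (W : Subgroup C[w]).map C[w].subtype with hW'
  have hWcard : Nat.card W' = bound r v := by
    rw [hW', card_map_of_injective C[w].subtype_injective, W.card_eq_multiplicity,
      h.bound_eq hvN hwN hv hwZ, bound]
  have hnorm : zpowers w ≤ normalizer (W' : Set G) := by
    refine le_trans (zpowers_le.2 (mem_centralizer_iff.2 fun u hu => ?_)) (centralizer_le_normalizer _)
    exact mem_cent.1 (map_subtype_le _ hu)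
  have hp : IsPGroup r (zpowers w ⊔ W' : Subgroup G) :=
    (isPGroup_zpowers hwr).to_sup_of_normal_right' (W.isPGroup'.map _) hnorm
  obtain ⟨S, hS⟩ := hp.exists_le_sylow
  obtain ⟨R₀, hR₀⟩ := h.sylow
  have := h.normal
  have hSN : (S : Subgroup G) ≤ N := fun s hs => h.mem_of_rel (orderOf_of_mem_pgroup S.isPGroup' hs)
  obtain ⟨n, hn⟩ := MulAction.exists_smul_eq N (S.subtype hSN) (R₀.subtype (hR₀ ▸ h.le))
  have key : ∀ s ∈ S, (n : G) * s * (n : G)⁻¹ ∈ R := fun s hs => by
    have h1 : MulAut.conj n ⟨s, hSN hs⟩ ∈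
        ((n • S.subtype hSN : Sylow r N) : Subgroup N) := by
      rw [Sylow.coe_subgroup_smul]
      exact ⟨⟨s, hSN hs⟩, hs, rfl⟩
    rw [hn] at h1
    rw [← hR₀]
    exact h1
  refine ⟨n, n.2, n * w * (n : G)⁻¹, key w (hS (mem_sup_left (mem_zpowers w))),
    fun hz => hwZ (conj_mem_center.1 hz), ?_, le_antisymm ?_ ?_⟩
  · ext u
    obtain ⟨u, rfl⟩ : ∃ u', u = n * u' * (n : G)⁻¹ := ⟨(n : G)⁻¹ * u * n, by group⟩
    rw [mem_cent_conj, mem_cent_conj, hvw]
  · refine (h.card_inf_le _).trans_eq (h.bound_eq hvN (h.normal.conj_mem w hwN n) hv ?_).symm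
    exact fun hz => hwZ (conj_mem_center.1 hz)
  · rw [← hWcard]
    have hmap : Nat.card (W'.map (MulAut.conj (n : G)).toMonoidHom) = Nat.card W' :=
      card_map_of_injective (MulAut.conj (n : G)).injective
    rw [← hmap]
    refine card_le_of_le ?_
    rintro _ ⟨u, hu, rfl⟩
    exact ⟨mem_cent_conj.2 (map_subtype_le _ hu), key u (hS (mem_sup_right hu))⟩

theorem full_of_normalizes (h : Hyp r R N) [Fact r.Prime] {x : G} (hxR : R ≤ normalizer (C[x] : Set G)) :
    Nat.card (C[x] ⊓ R : Subgroup G) = bound r x := by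
  refine le_antisymm (h.card_inf_le x) ?_
  obtain ⟨R₀, rfl⟩ := h.sylow
  obtain ⟨W⟩ := (inferInstance : Nonempty (Sylow r C[x]))
  set M := C[x] ⊔ (R₀ : Subgroup G) with hM
  have hn : (C[x].subgroupOf M).Normal :=
    normal_subgroupOf_of_le_normalizer (sup_le le_normalizer hxR)
  set W₁ := ((W : Subgroup C[x]).map C[x].subtype).subgroupOf M with hW₁
  have hW₁p : IsPGroup r W₁ := (W.isPGroup'.map _).comap_of_injective _ M.subtype_injective
  obtain ⟨S, hS⟩ := hW₁p.exists_le_sylow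
  obtain ⟨m, hm⟩ := MulAction.exists_smul_eq M S (R₀.subtype (le_sup_right : _ ≤ M))
  have key : W₁.map (MulAut.conj m).toMonoidHom ≤
      C[x].subgroupOf M ⊓ (R₀ : Subgroup G).subgroupOf M := by
    rintro _ ⟨u, hu, rfl⟩
    refine ⟨hn.conj_mem u (map_subtype_le _ hu : (u : G) ∈ C[x]) m, ?_⟩
    show MulAut.conj m u ∈ ((R₀.subtype (le_sup_right : _ ≤ M)) : Subgroup M)
    rw [← hm, Sylow.coe_subgroup_smul]
    exact ⟨u, hS hu, rfl⟩
  have h1 := card_le_of_le key
  rw [card_map_of_injective (MulAut.conj m).injective, hW₁,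
    Nat.card_congr (subgroupOfEquivOfLe ((map_subtype_le _).trans le_sup_left)).toEquiv,
    card_map_of_injective C[x].subtype_injective, W.card_eq_multiplicity] at h1
  refine h1.trans ?_
  rw [show C[x].subgroupOf M ⊓ (R₀ : Subgroup G).subgroupOf M = (C[x] ⊓ (R₀ : Subgroup G)).subgroupOf M
    from (comap_inf C[x] (R₀ : Subgroup G) M.subtype).symm]
  exact (Nat.card_congr (subgroupOfEquivOfLe
    ((inf_le_left : C[x] ⊓ (R₀ : Subgroup G) ≤ _).trans le_sup_left)).toEquiv).le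

end Hyp

end Cfsg.Agent.TwoClassSizes.Normal
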