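import Cfsg.Agent.TwoClassSizes.NormalBasic

/-!
Elements which centralize an element modulo the centre, and the rank one argument.
-/

set_option autoImplicit false
set_option linter.unusedSectionVars false

namespace Cfsg.Agent.TwoClassSizes.Normal

open Subgroup

universe u

variable {G : Type u} [Group G] [Finite G]

local notation "C[" x "]" => Subgroup.centralizer ({x} : Set _)

/-- The elements of `N` centralizing `t` modulo the centre. -/
def modCent (N : Subgroup G) (t : G) : Subgroup G where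
  carrier := {g | g ∈ N ∧ t⁻¹ * (g * t * g⁻¹) ∈ center G}
  one_mem' := ⟨one_mem N, by simp⟩
  mul_mem' := by
    intro a b ha hb
    refine ⟨mul_mem ha.1 hb.1, ?_⟩
    have e : t⁻¹ * (a * b * t * (a * b)⁻¹) =
        (t⁻¹ * (a * t * a⁻¹)) * (a * (t⁻¹ * (b * t * b⁻¹)) * a⁻¹) := by group
    rw [e]
    exact mul_mem ha.2 ((inferInstance : (center G).Normal).conj_mem _ hb.2 a)
  inv_mem' := by
    intro a ha
    refine ⟨inv_mem ha.1, ?_⟩
    have e : t⁻¹ * (a⁻¹ * t * a⁻¹⁻¹) = a⁻¹ * (t⁻¹ * (a * t * a⁻¹))⁻¹ * a⁻¹⁻¹ := by group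
    rw [e]
    exact (inferInstance : (center G).Normal).conj_mem _ (inv_mem ha.2) a⁻¹

variable {r : ℕ} {R N : Subgroup G} {t : G}

theorem mem_modCent {g : G} : g ∈ modCent N t ↔ g ∈ N ∧ t⁻¹ * (g * t * g⁻¹) ∈ center G := Iff.rfl

theorem modCent_le : modCent N t ≤ N := fun _ h => h.1

theorem inf_cent_le_modCent : N ⊓ C[t] ≤ modCent N t := by
  rintro g ⟨h1, h2⟩
  refine ⟨h1, ?_⟩
  rw [mem_cent.1 h2]
  simp

/-- The commutator with `t`, a homomorphism to the centre. -/
def comm (N : Subgroup G) (t : G) : modCent N t →* center G where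
  toFun g := ⟨t⁻¹ * ((g : G) * t * (g : G)⁻¹), g.2.2⟩
  map_one' := Subtype.ext (by simp)
  map_mul' a b := Subtype.ext (by
    show t⁻¹ * ((a : G) * b * t * ((a : G) * b)⁻¹) =
      t⁻¹ * ((a : G) * t * (a : G)⁻¹) * (t⁻¹ * ((b : G) * t * (b : G)⁻¹))
    have h : (a : G) * (t⁻¹ * ((b : G) * t * (b : G)⁻¹)) * (a : G)⁻¹ =
        t⁻¹ * ((b : G) * t * (b : G)⁻¹) := by
      rw [mem_center_iff.1 b.2.2 (a : G), mul_inv_cancel_right]
    rw [← h]
    group)

theorem comm_apply (g : modCent N t) :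
    ((comm N t g : center G) : G) = t⁻¹ * ((g : G) * t * (g : G)⁻¹) := rfl

theorem comm_eq_one_iff {g : modCent N t} : comm N t g = 1 ↔ (g : G) ∈ C[t] := by
  rw [Subtype.ext_iff, comm_apply, OneMemClass.coe_one, inv_mul_eq_one, eq_mul_inv_iff_mul_eq,
    mem_cent, eq_comm]

theorem conj_eq (g : modCent N t) : (g : G) * t * (g : G)⁻¹ = t * (comm N t g : center G) := by
  rw [comm_apply, mul_inv_cancel_left]

theorem cent_conj_eq (g : modCent N t) : C[(g : G) * t * (g : G)⁻¹] = C[t] := by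
  rw [conj_eq, cent_mul_central (comm N t g).2]

theorem modCent_le_normalizer : modCent N t ≤ normalizer (C[t] : Set G) := by
  intro g hg
  rw [mem_normalizer_iff]
  intro u
  have h : g * u * g⁻¹ ∈ C[g * t * g⁻¹] ↔ g * u * g⁻¹ ∈ C[t] := by rw [cent_conj_eq ⟨g, hg⟩]
  rw [← h]
  exact mem_cent_conj.symm

theorem comm_pow_orderOf (g : modCent N t) : comm N t g ^ orderOf t = 1 := by
  refine Subtype.ext ?_
  have h1 : Commute t (comm N t g : center G) := mem_center_iff.1 (comm N t g).2 t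
  have h2 := congrArg (· ^ orderOf t) (conj_eq g)
  simp only [conj_pow, h1.mul_pow, pow_orderOf_eq_one, mul_one, mul_inv_cancel, one_mul] at h2
  simpa using h2.symm

theorem comm_pow_eq_one {m : ℕ} (htm : t ^ m ∈ center G) (g : modCent N t) :
    comm N t g ^ m = 1 := by
  refine Subtype.ext ?_
  have h1 : Commute t (comm N t g : center G) := mem_center_iff.1 (comm N t g).2 t
  have h2 := congrArg (· ^ m) (conj_eq g)
  simp only [conj_pow, h1.mul_pow] at h2
  rw [mem_center_iff.1 htm (g : G), mul_inv_cancel_right] at h2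
  simpa using h2.symm

theorem mem_cent_of_coprime [Fact r.Prime] (ht : ∃ k, orderOf t ∣ r ^ k) {g : G} (hg : g ∈ modCent N t)
    (hgr : (orderOf g).Coprime r) : g ∈ C[t] := by
  refine (comm_eq_one_iff (g := ⟨g, hg⟩)).1 ?_
  refine orderOf_eq_one_iff.1 (Nat.eq_one_of_dvd_coprimes (coprime_orders ht hgr)
    (orderOf_dvd_of_pow_eq_one (comm_pow_orderOf ⟨g, hg⟩)) ?_)
  exact (orderOf_map_dvd (comm N t) ⟨g, hg⟩).trans (Subgroup.orderOf_mk g hg).dvd

/-- An `r'`-element centralizing `t` which normalizes an `r`-group inside `modCent`. -/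
theorem commute_of_normalizes [Fact r.Prime] {P : Subgroup G} (hP : IsPGroup r P) (hPM : P ≤ modCent N t)
    {g : G} (hgt : g ∈ C[t]) (hgr : (orderOf g).Coprime r) (hgP : g ∈ normalizer (P : Set G))
    (hfix : ∀ s ∈ P, s ∈ C[t] → g * s = s * g) {u : G} (hu : u ∈ P) : g * u = u * g := by
  have hv : g * u * g⁻¹ ∈ P := (mem_normalizer_iff.1 hgP u).1 hu
  set τ := u⁻¹ * (g * u * g⁻¹) with hτ
  have hτP : τ ∈ P := mul_mem (inv_mem hu) hv
  have hτC : τ ∈ C[t] := by
    have h1 : comm N t ⟨g * u * g⁻¹, hPM hv⟩ = comm N t ⟨u, hPM hu⟩ := by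
      refine Subtype.ext ?_
      rw [comm_apply, comm_apply]
      have hgt' : g * t * g⁻¹ = t := by rw [mem_cent.1 hgt, mul_inv_cancel_right]
      have e := mem_center_iff.1 (hPM hu).2 g
      calc t⁻¹ * (g * u * g⁻¹ * t * (g * u * g⁻¹)⁻¹)
          = (g * t * g⁻¹)⁻¹ * (g * u * g⁻¹ * (g * t * g⁻¹) * (g * u * g⁻¹)⁻¹) := by rw [hgt']
        _ = g * (t⁻¹ * (u * t * u⁻¹)) * g⁻¹ := by group
        _ = t⁻¹ * (u * t * u⁻¹) := by rw [e, mul_inv_cancel_right]
    have h2 : comm N t ((⟨u, hPM hu⟩ : modCent N t)⁻¹ * ⟨g * u * g⁻¹, hPM hv⟩) = 1 := by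
      rw [map_mul, map_inv, h1, inv_mul_cancel]
    exact comm_eq_one_iff.1 h2
  have hgτ : Commute g τ := hfix τ hτP hτC
  have hit : ∀ n : ℕ, g ^ n * u * (g ^ n)⁻¹ = u * τ ^ n := by
    intro n
    induction n with
    | zero => simp
    | succ n ih =>
      have e : g * τ ^ n * g⁻¹ = τ ^ n := by rw [(hgτ.pow_right n).eq, mul_inv_cancel_right]
      calc g ^ (n + 1) * u * (g ^ (n + 1))⁻¹ = g * (g ^ n * u * (g ^ n)⁻¹) * g⁻¹ := by
            rw [pow_succ']; group
        _ = g * (u * τ ^ n) * g⁻¹ := by rw [ih]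
        _ = g * u * g⁻¹ * (g * τ ^ n * g⁻¹) := by group
        _ = u * τ * τ ^ n := by rw [e, hτ, mul_inv_cancel_left]
        _ = u * τ ^ (n + 1) := by rw [pow_succ']; group
  have h1 := hit (orderOf g)
  rw [pow_orderOf_eq_one, one_mul, inv_one, mul_one, left_eq_mul] at h1
  have hτ1 : τ = 1 := orderOf_eq_one_iff.1 (Nat.eq_one_of_dvd_coprimes
    (coprime_orders (orderOf_of_mem_pgroup hP hτP) hgr) dvd_rfl (orderOf_dvd_of_pow_eq_one h1))
  rw [hτ, inv_mul_eq_one, eq_mul_inv_iff_mul_eq] at hτ1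
  exact hτ1.symm

/-- Fixed point free action forces rank one. -/
theorem Hyp.relIndex_le (h : Hyp r R N) [Fact r.Prime] (htr : ∃ k, orderOf t ∣ r ^ k)
    (ht : t ∉ center G) (htp : t ^ r ∈ center G) {y : G} (hyN : y ∈ N) (hy : y ∉ center G)
    (hyr : (orderOf y).Coprime r) (hyt : y ∈ C[t]) {U : Subgroup G} (hU : U ≤ modCent N t) :
    C[t].relIndex U ≤ r := by
  have htN := h.mem_of_rel htr
  have hA := (h.centralizes hyN htr hyr ht hy (mem_cent.1 hyt).symm).2
  set A := N ⊓ C[t] with hAdef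
  let instA : CommGroup A := { (inferInstance : Group A) with
    mul_comm := fun a b => Subtype.ext (mem_centralizer_iff.1 (hA b.2) a (inf_le_right (a := N) a.2)) }
  have hnorm : ∀ g ∈ modCent N t, ∀ a ∈ A, g * a * g⁻¹ ∈ A := fun g hg a ha =>
    ⟨h.normal.conj_mem a ha.1 g, (mem_normalizer_iff.1 (modCent_le_normalizer hg) a).1 ha.2⟩
  let F : modCent N t → A →* A := fun g =>
    { toFun := fun a => ⟨(g : G) * a * (g : G)⁻¹, hnorm g g.2 a a.2⟩
      map_one' := Subtype.ext (by simp)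
      map_mul' := fun a b => Subtype.ext (by
        show (g : G) * ((a : G) * b) * (g : G)⁻¹ =
          (g : G) * a * (g : G)⁻¹ * ((g : G) * b * (g : G)⁻¹)
        group) }
  have hFmul : ∀ g g' a, F (g * g') a = F g (F g' a) := fun g g' a => Subtype.ext (by
    show ((g : G) * g') * a * ((g : G) * g')⁻¹ = (g : G) * ((g' : G) * a * (g' : G)⁻¹) * (g : G)⁻¹
    group)
  have hFone : ∀ a, F 1 a = a := fun a => Subtype.ext (by
    show (1 : G) * a * (1 : G)⁻¹ = a
    group)
  have hFeq : ∀ g g', comm N t g = comm N t g' → ∀ a, F g a = F g' a := by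
    intro g g' hgg a
    obtain ⟨k, rfl⟩ : ∃ k, g' = g * k := ⟨g⁻¹ * g', by simp⟩
    rw [map_mul, left_eq_mul, comm_eq_one_iff] at hgg
    have e : F k a = a := Subtype.ext (by
      show (k : G) * a * (k : G)⁻¹ = a
      rw [mem_centralizer_iff.1 (hA a.2) k hgg, mul_inv_cancel_right])
    rw [hFmul, e]
  let P : modCent N t → A → A := fun g a => ∏ j ∈ Finset.range r, F (g ^ j) a
  have hPfix : ∀ g a, F g (P g a) = P g a := by
    intro g a
    have e1 : F g (P g a) = ∏ j ∈ Finset.range r, F (g ^ (j + 1)) a := by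
      rw [map_prod]
      exact Finset.prod_congr rfl fun j _ => by rw [pow_succ', hFmul]
    have e2 := (Finset.prod_range_succ (fun j => F (g ^ j) a) r).symm.trans
      (Finset.prod_range_succ' (fun j => F (g ^ j) a) r)
    have e3 : F (g ^ r) a = a := by
      rw [hFeq (g ^ r) 1 (by rw [map_pow, comm_pow_eq_one htp, map_one]), hFone]
    simp only [e3, pow_zero, hFone, mul_left_inj] at e2
    rw [e1, ← e2]
  have hPc : ∀ g : modCent N t, (g : G) ∉ C[t] → ∀ a, ((P g a : A) : G) ∈ center G := by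
    intro g hg a
    by_contra hz
    refine hg ?_
    rw [← h.eq_of_mem_cent_cent htN (P g a).2.1 ht hz (hA (P g a).2)]
    have e : (g : G) * (P g a : A) * (g : G)⁻¹ = (P g a : A) := congrArg Subtype.val (hPfix g a)
    exact mem_cent.2 (mul_inv_eq_iff_eq_mul.1 e)
  rcases em (U ≤ C[t]) with hUC | hUC
  · rw [relIndex_eq_one.2 hUC]; exact h.prime.one_le
  obtain ⟨u₁, hu₁, hu₁C⟩ := SetLike.not_le_iff_exists.1 hUC
  let g₁ : modCent N t := ⟨u₁, hU hu₁⟩
  have hg₁ : ∀ j, 0 < j → j < r → ((g₁ ^ j : modCent N t) : G) ∉ C[t] := by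
    intro j hj hjr hjC
    have h1 := comm_eq_one_iff.2 hjC
    rw [map_pow] at h1
    refine hu₁C ((comm_eq_one_iff (g := g₁)).1 ((pow_one (comm N t g₁)).symm.trans ?_))
    have h3 : comm N t g₁ ^ Nat.gcd j r = 1 := pow_gcd_eq_one.2 ⟨h1, comm_pow_eq_one htp g₁⟩
    rwa [show Nat.gcd j r = 1 from
      ((h.prime.coprime_iff_not_dvd).2 fun hd => absurd (Nat.le_of_dvd hj hd) (by omega)).symm] at h3
  have key : ∀ u₂ : U, ∃ i, i < r ∧ u₁ ^ i * (u₂ : G) ∈ C[t] := by
    by_contra hcon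
    push Not at hcon
    obtain ⟨⟨u₂, hu₂⟩, hu₂'⟩ := hcon
    let g₂ : modCent N t := ⟨u₂, hU hu₂⟩
    let yA : A := ⟨y, hyN, hyt⟩
    let Z : Subgroup A := (center G).subgroupOf A
    have hZfix : ∀ g, ∀ a ∈ Z, F g a = a := fun g a ha => Subtype.ext (by
      show (g : G) * a * (g : G)⁻¹ = a
      rw [mem_center_iff.1 (show ((a : A) : G) ∈ center G from ha) (g : G), mul_inv_cancel_right])
    have hgrid : (∏ i ∈ Finset.range r, P (g₁ ^ i * g₂) yA) ∈ Z :=
      prod_mem fun i hi => hPc _ (hu₂' i (Finset.mem_range.1 hi)) yA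
    rw [Finset.prod_comm, ← Finset.mul_prod_erase _ _ (Finset.mem_range.2 h.prime.pos)] at hgrid
    simp only [pow_zero, hFone, Finset.prod_const, Finset.card_range] at hgrid
    have hrest : ∀ j ∈ (Finset.range r).erase 0,
        (∏ i ∈ Finset.range r, F ((g₁ ^ i * g₂) ^ j) yA) ∈ Z := by
      intro j hj
      obtain ⟨hj0, hjr⟩ := Finset.mem_erase.1 hj
      have hmem : P (g₁ ^ j) yA ∈ Z :=
        hPc _ (hg₁ j (Nat.pos_of_ne_zero hj0) (Finset.mem_range.1 hjr)) yA
      have e : ∏ i ∈ Finset.range r, F ((g₁ ^ i * g₂) ^ j) yA = F (g₂ ^ j) (P (g₁ ^ j) yA) := by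
        rw [map_prod]
        refine Finset.prod_congr rfl fun i _ => ?_
        rw [← hFmul]
        refine hFeq _ _ ?_ _
        have hcc : ∀ a b : center G, Commute a b := fun a b => (a.2.comm b).eq |> Subtype.ext
        simp only [map_pow, map_mul]
        rw [(hcc _ _).mul_pow, ← pow_mul, ← pow_mul, Nat.mul_comm i j]
        exact (hcc _ _).eq
      rw [e, hZfix _ _ hmem]
      exact hmem
    have hyr' : (yA : A) ^ r ∈ Z := (Subgroup.mul_mem_cancel_right _ (prod_mem hrest)).1 hgrid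
    obtain ⟨m, hm⟩ := exists_pow_eq_self_of_coprime (x := y) hyr.symm
    refine hy ?_
    rw [← hm]
    exact pow_mem hyr' m
  have hsurj : Function.Surjective
      (fun i : Fin r => (QuotientGroup.mk (⟨(u₁ ^ (i : ℕ))⁻¹, inv_mem (pow_mem hu₁ _)⟩ : U) :
        U ⧸ C[t].subgroupOf U)) := by
    intro q
    obtain ⟨v, rfl⟩ := QuotientGroup.mk_surjective q
    obtain ⟨i, hi, hiv⟩ := key v
    refine ⟨⟨i, hi⟩, QuotientGroup.eq.2 (mem_subgroupOf.2 ?_)⟩
    simpa using hiv
  simpa [relIndex, index_eq_card] using Nat.card_le_card_of_surjective _ hsurj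

end Cfsg.Agent.TwoClassSizes.Normal
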