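import Cfsg.Agent.TwoClassSizes.NormalStep

/-!
The structure of the Sylow subgroup: its image in the quotient by the centre has order `r ^ 2`,
and every noncentral element commutes with a noncentral `r'`-element.
-/

set_option autoImplicit false
set_option linter.unusedSectionVars false

namespace Cfsg.Agent.TwoClassSizes.Normal

open Subgroup

universe u

variable {G : Type u} [Group G] [Finite G]

local notation "C[" x "]" => Subgroup.centralizer ({x} : Set _)

variable {r : ℕ} {R N : Subgroup G}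

theorem card_inf_mul (V T : Subgroup G) :
    Nat.card (V ⊓ T : Subgroup G) * V.relIndex T = Nat.card T := by
  have h1 := card_mul_index (V.subgroupOf T)
  rwa [← inf_subgroupOf_right V T, Nat.card_congr (subgroupOfEquivOfLe inf_le_right).toEquiv,
    inf_subgroupOf_right] at h1

theorem center_inf_normal (K : Subgroup G) : (center G ⊓ K).Normal :=
  ⟨fun z hz g => by rw [mem_center_iff.1 hz.1 g, mul_inv_cancel_right]; exact hz⟩

theorem exists_pow_noncentral [Fact r.Prime] {t : G} (ht : ∃ k, orderOf t ∣ r ^ k)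
    (htZ : t ∉ center G) : ∃ m, t ^ m ∉ center G ∧ (t ^ m) ^ r ∈ center G := by
  classical
  have hex : ∃ k, t ^ r ^ k ∈ center G := by
    obtain ⟨k, hk⟩ := ht
    exact ⟨k, by rw [orderOf_dvd_iff_pow_eq_one.1 hk]; exact one_mem _⟩
  have h0 : Nat.find hex ≠ 0 := fun h => htZ (by simpa [h] using Nat.find_spec hex)
  refine ⟨r ^ (Nat.find hex - 1), Nat.find_min hex (by omega), ?_⟩
  rw [← pow_mul, ← pow_succ, show Nat.find hex - 1 + 1 = Nat.find hex by omega]
  exact Nat.find_spec hex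

theorem exists_modCent_sylow [Fact r.Prime] (h : Hyp r R N) :
    ∃ x ∈ R, x ∉ center G ∧ x ^ r ∈ center G ∧ R ≤ modCent N x := by
  set K := (center G).subgroupOf R
  have : K.Normal := Normal.comap inferInstance _
  have : Nontrivial (R ⧸ K) := by
    obtain ⟨a, ha, haZ⟩ := SetLike.not_le_iff_exists.1 h.noncentral
    exact ⟨⟨(⟨a, ha⟩ : R), 1, fun e =>
      haZ (mem_subgroupOf.1 ((QuotientGroup.eq_one_iff _).1 e))⟩⟩
  have := (h.isPGroup.to_quotient K).center_nontrivial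
  obtain ⟨n, hn, hcard⟩ := ((h.isPGroup.to_quotient K).to_subgroup
    (center (R ⧸ K))).nontrivial_iff_card.1 inferInstance
  obtain ⟨⟨c, hc⟩, hcord⟩ := exists_prime_orderOf_dvd_card' (G := center (R ⧸ K)) r
    (hcard ▸ dvd_pow_self r hn.ne')
  obtain ⟨x, rfl⟩ := QuotientGroup.mk_surjective c
  rw [Subgroup.orderOf_mk] at hcord
  refine ⟨x, x.2, fun hz => h.prime.ne_one ?_, ?_, fun u hu => ⟨h.le hu, ?_⟩⟩
  · rw [← hcord, orderOf_eq_one_iff]
    exact (QuotientGroup.eq_one_iff x).2 (mem_subgroupOf.2 hz)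
  · have h1 : ((x ^ r : R) : R ⧸ K) = 1 := by
      rw [QuotientGroup.mk_pow, ← hcord, pow_orderOf_eq_one]
    simpa using mem_subgroupOf.1 ((QuotientGroup.eq_one_iff _).1 h1)
  · have h1 := QuotientGroup.eq.1
      (mem_center_iff.1 hc (QuotientGroup.mk (⟨u, hu⟩ : R))).symm
    have h2 := mem_subgroupOf.1 h1
    have h3 := (inferInstance : (center G).Normal).conj_mem _ h2 u
    push_cast at h3
    have e : u * (((x : G) * u)⁻¹ * (u * (x : G))) * u⁻¹ = (x : G)⁻¹ * (u * x * u⁻¹) * 1 := by group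
    first
      | simpa [e] using h3
      | (rw [show u * (((x : G) * u)⁻¹ * (u * (x : G))) * u⁻¹ = (x : G)⁻¹ * (u * x * u⁻¹) by group] at h3; exact h3)

namespace Hyp

theorem not_le_cent (h : Hyp r R N) {b : ℕ} (hb : ∀ v ∈ N, v ∉ center G → bound r v = b)
    (hbR : b < Nat.card R) {v : G} (hvN : v ∈ N) (hv : v ∉ center G) : ¬ R ≤ C[v] := fun hle => by
  have h1 := h.card_inf_le v
  rw [inf_eq_right.2 hle, hb v hvN hv] at h1
  omega

/-- The Sylow subgroups of the centralizers are centralizer intersections of order `r` times the centre. -/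
theorem bound_le (h : Hyp r R N) [Fact r.Prime] {b : ℕ} (hb : ∀ v ∈ N, v ∉ center G → bound r v = b)
    (hbR : b < Nat.card R) {y : G} (hyN : y ∈ N) (hy : y ∉ center G) (hyr : (orderOf y).Coprime r) :
    b ≤ Nat.card (center G ⊓ R : Subgroup G) * r := by
  obtain ⟨x, hxR, hxZ, hxp, hxM⟩ := exists_modCent_sylow h
  have hxN := h.le hxR
  have hxr := orderOf_of_mem_pgroup h.isPGroup hxR
  have hfx := (h.full_of_normalizes (hxM.trans modCent_le_normalizer)).trans (hb x hxN hxZ)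
  have small : ∀ {T V U : Subgroup G}, T ≤ U → V ⊓ T ≤ center G ⊓ R → V.relIndex U ≤ r →
      Nat.card T ≤ Nat.card (center G ⊓ R : Subgroup G) * r := by
    intro T V U hTU hle hidx
    rw [← card_inf_mul V T]
    exact Nat.mul_le_mul (card_le_of_le hle)
      ((relIndex_le_of_le_right hTU index_ne_zero_of_finite).trans hidx)
  by_cases htype : ∃ y' ∈ N, y' ∈ C[x] ∧ y' ∉ center G ∧ (orderOf y').Coprime r
  · obtain ⟨y', hy'N, hy'x, hy'Z, hy'r⟩ := htype
    have hidx : C[x].relIndex R ≤ r := h.relIndex_le hxr hxZ hxp hy'N hy'Z hy'r hy'x hxM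
    have hA := (h.centralizes hy'N hxr hy'r hxZ hy'Z (mem_cent.1 hy'x).symm).2
    have hne : (N ⊓ C[x]).subgroupOf N ≠ ⊤ := fun e =>
      h.not_le_cent hb hbR hxN hxZ fun u hu => (subgroupOf_eq_top.1 e (h.le hu)).2
    obtain ⟨⟨v, hvN⟩, hv⟩ := exists_not_mem_conj hne
    have hv' : ∀ g ∈ N, g * v * g⁻¹ ∉ N ⊓ C[x] := fun g hg hmem =>
      hv ⟨g⁻¹, inv_mem hg⟩ (by simpa [mem_subgroupOf] using hmem.2)
    have hvZ : v ∉ center G := fun hz => hv' 1 (one_mem N)
      (by simpa using ⟨hvN, center_le_centralizer_singleton x hz⟩)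
    obtain ⟨g, hgN, w, hwR, hwZ, hgw, hwcard⟩ := h.exists_full hvN hvZ
    rw [hb v hvN hvZ] at hwcard
    rw [← hwcard]
    refine small inf_le_right (?_ : C[x] ⊓ (C[w] ⊓ R) ≤ _) hidx
    rintro z ⟨hzx, hzw, hzR⟩
    refine ⟨by_contra fun hzZ => ?_, hzR⟩
    have hCz := h.eq_of_mem_cent_cent hxN (h.le hzR) hxZ hzZ (hA ⟨h.le hzR, hzx⟩)
    have hwx : w ∈ C[x] := hCz ▸ mem_cent_symm hzw
    have hCw := h.eq_of_mem_cent_cent hxN (h.le hwR) hxZ hwZ (hA ⟨h.le hwR, hwx⟩)
    refine hv' g hgN ⟨h.normal.conj_mem v hvN g, ?_⟩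
    rw [← hCw, ← hgw]
    exact self_mem_cent _
  obtain ⟨g, hgN, w, hwR, hwZ, hgw, hwcard⟩ := h.exists_full hyN hy
  rw [hb y hyN hy] at hwcard
  have hwN := h.le hwR
  obtain ⟨m, hm, hmp⟩ := exists_pow_noncentral (orderOf_of_mem_pgroup h.isPGroup hwR) hwZ
  set t := w ^ m with ht
  have htR : t ∈ R := pow_mem hwR m
  have htN := h.le htR
  have htr := orderOf_of_mem_pgroup h.isPGroup htR
  have hCt : C[w] = C[t] := h.eq_of_le hwN htN hwZ hm
    (centralizer_le_of_mem_zpowers (pow_mem (mem_zpowers w) m))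
  rw [hCt] at hwcard hgw
  set y' := g * y * g⁻¹ with hy'
  have hy'N : y' ∈ N := h.normal.conj_mem y hyN g
  have hy'Z : y' ∉ center G := fun hz => hy (conj_mem_center.1 hz)
  have hy'r : (orderOf y').Coprime r := by rw [hy', orderOf_conj]; exact hyr
  have hy't : y' ∈ C[t] := hgw ▸ self_mem_cent y'
  have hA := (h.centralizes hy'N htr hy'r hm hy'Z (mem_cent.1 hy't).symm).2
  set T := C[t] ⊓ R with hT
  have hTx : C[x] ⊓ T ≤ center G ⊓ R := by
    rintro z ⟨hzx, hzt, hzR⟩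
    refine ⟨by_contra fun hzZ => htype ?_, hzR⟩
    have hCz := h.eq_of_mem_cent_cent htN (h.le hzR) hm hzZ (hA ⟨h.le hzR, hzt⟩)
    have hxt : x ∈ C[t] := hCz ▸ mem_cent_symm hzx
    have hCx := h.eq_of_mem_cent_cent htN hxN hm hxZ (hA ⟨hxN, hxt⟩)
    exact ⟨y', hy'N, hCx ▸ hy't, hy'Z, hy'r⟩
  set U := normalizer (T : Set G) ⊓ R with hU
  have hUM : U ≤ modCent N t := by
    rintro u ⟨huT, huR⟩
    refine ⟨h.le huR, (hTx ⟨?_, ?_⟩).1⟩
    · have h1 : comm N x ((⟨t, hxM htR⟩ : modCent N x)⁻¹ *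
          (⟨u, hxM huR⟩ * ⟨t, hxM htR⟩ * (⟨u, hxM huR⟩ : modCent N x)⁻¹)) = 1 := by
        have hcc : ∀ a b : center G, a * b = b * a := fun a b => (Subtype.ext (a.2.comm b).eq)
        simp only [map_mul, map_inv]
        rw [hcc (comm N x ⟨u, _⟩) (comm N x ⟨t, _⟩)]
        group
      exact comm_eq_one_iff.1 h1
    · exact T.mul_mem (T.inv_mem ⟨self_mem_cent t, htR⟩)
        ((mem_normalizer_iff.1 huT t).1 ⟨self_mem_cent t, htR⟩)
  have hidx : C[t].relIndex U ≤ r := h.relIndex_le htr hm hmp hy'N hy'Z hy'r hy't hUM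
  have hTU : T ≤ U := le_inf le_normalizer inf_le_right
  by_cases hUR : U = R
  · rw [← hwcard]
    refine small inf_le_right hTx ?_
    have h1 := card_inf_mul C[x] R
    have h2 : Nat.card T * C[t].relIndex R = Nat.card R := card_inf_mul C[t] R
    rw [hfx] at h1
    rw [hwcard] at h2
    rw [← h2] at h1
    rw [hUR] at hidx
    have hbpos : 0 < b := hwcard ▸ Nat.card_pos
    exact (Nat.eq_of_mul_eq_mul_left hbpos h1).le.trans hidx
  · have hnil : Group.IsNilpotent R := h.isPGroup.isNilpotent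
    have hlt : U.subgroupOf R < ⊤ := lt_top_iff_ne_top.2 fun e =>
      hUR (le_antisymm inf_le_right (subgroupOf_eq_top.1 e))
    obtain ⟨⟨a, haR⟩, haN, haU⟩ :=
      SetLike.exists_of_lt (Group.normalizerCondition_of_isNilpotent _ hlt)
    rw [mem_subgroupOf] at haU
    have hmap : ∀ s ∈ U, a * s * a⁻¹ ∈ U := fun s hs =>
      mem_subgroupOf.1 ((mem_normalizer_iff.1 haN ⟨s, hs.2⟩).1 (mem_subgroupOf.2 hs))
    have hTa : Nat.card (T.map (MulAut.conj a).toMonoidHom) = Nat.card T :=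
      card_map_of_injective (MulAut.conj a).injective
    rw [← hwcard, ← hTa]
    refine small (V := C[t]) (U := U) ?_ ?_ hidx
    · rintro _ ⟨s, hs, rfl⟩
      exact hmap s (hTU hs)
    · rintro _ ⟨hzt, s, hs, rfl⟩
      have hzR : a * s * a⁻¹ ∈ R := mul_mem (mul_mem haR hs.2) (inv_mem haR)
      refine ⟨by_contra fun hzZ => haU ⟨?_, haR⟩, hzR⟩
      have h1 := h.eq_of_mem_cent_cent htN (h.le hzR) hm hzZ (hA ⟨h.le hzR, hzt⟩)
      have h2 := h.eq_of_mem_cent_cent htN (h.le hs.2) hm (fun hz => hzZ (conj_mem_center.2 hz))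
        (hA ⟨h.le hs.2, hs.1⟩)
      refine mem_normalizer_iff.2 fun u => ?_
      have key : u ∈ C[t] ↔ a * u * a⁻¹ ∈ C[t] := by
        conv_lhs => rw [← h2]
        rw [← mem_cent_conj (g := a), h1]
      constructor
      · exact fun hu => ⟨key.1 hu.1, R.mul_mem (R.mul_mem haR hu.2) (R.inv_mem haR)⟩
      · rintro ⟨hu1, hu2⟩
        refine ⟨key.2 hu1, ?_⟩
        have := mul_mem (mul_mem (inv_mem haR) hu2) haR
        simpa [mul_assoc] using this

end Hyp

end Cfsg.Agent.TwoClassSizes.Normal
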