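import Cfsg.Agent.TwoClassSizes.NormalSylow

/-!
Every noncentral element of the Sylow subgroup commutes with a noncentral `r'`-element, and the
Sylow subgroup has order `r ^ 2` modulo the centre.
-/

set_option autoImplicit false
set_option linter.unusedSectionVars false

namespace Cfsg.Agent.TwoClassSizes.Normal

open Subgroup

universe u

variable {G : Type u} [Group G] [Finite G]

local notation "C[" x "]" => Subgroup.centralizer ({x} : Set _)

variable {r : ℕ} {R N : Subgroup G}

theorem mul_card_le [Fact r.Prime] {H K : Subgroup G} (hK : IsPGroup r K) (hHK : H ≤ K) (hne : H ≠ K) :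
    Nat.card H * r ≤ Nat.card K := by
  obtain ⟨i, hi⟩ := IsPGroup.iff_card.1 (hK.to_le hHK)
  obtain ⟨j, hj⟩ := IsPGroup.iff_card.1 hK
  have hlt : Nat.card H < Nat.card K :=
    lt_of_le_of_ne (card_le_of_le hHK) fun e => hne (eq_of_le_of_card_ge hHK e.ge)
  rw [hi, hj] at hlt ⊢
  rw [← pow_succ]
  exact Nat.pow_le_pow_right (Fact.out : r.Prime).pos
    ((Nat.pow_lt_pow_iff_right (Fact.out : r.Prime).one_lt).1 hlt)

/-- The data of the contradiction proof. -/
structure Ctx (r : ℕ) (R N : Subgroup G) (b : ℕ) : Prop where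
  hyp : Hyp r R N
  bound_eq : ∀ v ∈ N, v ∉ center G → bound r v = b
  lt : b < Nat.card R
  exists_prime' : ∃ y ∈ N, y ∉ center G ∧ (orderOf y).Coprime r

variable {b : ℕ}

namespace Ctx

theorem full (c : Ctx r R N b) [Fact r.Prime] {w : G} (hwR : w ∈ R) (hw : w ∉ center G) :
    Nat.card (C[w] ⊓ R : Subgroup G) = b ∧ b = Nat.card (center G ⊓ R : Subgroup G) * r ∧
      C[w] ⊓ R ≤ centralizer (C[w] : Set G) ∧ w ^ r ∈ center G := by
  obtain ⟨y, hyN, hy, hyr⟩ := c.exists_prime'
  have hble := c.hyp.bound_le c.bound_eq c.lt hyN hy hyr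
  have hcap := (c.hyp.card_inf_le w).trans_eq (c.bound_eq w (c.hyp.le hwR) hw)
  have := center_inf_normal (G := G) R
  have hKR : ∀ {a : G}, a ∈ R → center G ⊓ R ⊔ zpowers a ≤ R := fun ha =>
    sup_le inf_le_right (zpowers_le.2 ha)
  have hKbig : ∀ {a : G}, a ∈ R → a ∉ center G →
      Nat.card (center G ⊓ R : Subgroup G) * r ≤ Nat.card (center G ⊓ R ⊔ zpowers a : Subgroup G) :=
    fun {a} ha haZ => mul_card_le (c.hyp.isPGroup.to_le (hKR ha)) le_sup_left fun e =>
      haZ (e.ge (mem_sup_right (mem_zpowers a))).1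
  set K := center G ⊓ R ⊔ zpowers w with hK
  have hKC : K ≤ C[w] ⊓ R := le_inf (sup_le (inf_le_left.trans (center_le_centralizer_singleton w))
    (zpowers_le.2 (self_mem_cent w))) (hKR hwR)
  have h1 : Nat.card (center G ⊓ R : Subgroup G) * r ≤ Nat.card K := hKbig hwR hw
  have h2 := card_le_of_le hKC
  have heq : K = C[w] ⊓ R := eq_of_le_of_card_ge hKC (by omega)
  refine ⟨by omega, by omega, ?_, ?_⟩
  · rw [← heq]
    exact sup_le (inf_le_left.trans (center_le_centralizer _))
      (zpowers_le.2 (mem_centralizer_iff.2 fun u hu => mem_cent.1 hu))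
  · by_contra hwr
    have hle : center G ⊓ R ⊔ zpowers (w ^ r) ≤ K :=
      sup_le_sup_left (zpowers_le.2 (pow_mem (mem_zpowers w) r)) _
    have h3 := hKbig (pow_mem hwR r) hwr
    have heq' := eq_of_le_of_card_ge hle (by omega)
    have hwmem : w ∈ center G ⊓ R ⊔ zpowers (w ^ r) := heq'.ge (mem_sup_right (mem_zpowers w))
    obtain ⟨z, hz, e, he, hze⟩ := mem_sup_of_normal_left.1 hwmem
    obtain ⟨i, rfl⟩ := mem_zpowers_iff.1 he
    have step : ∀ n, w ^ r ^ (n + 1) ∈ center G → w ^ r ^ n ∈ center G := by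
      intro n hn
      conv => arg 2; rw [← hze]
      have hc : Commute z ((w ^ r) ^ i) := (mem_center_iff.1 hz.1 _).symm
      rw [hc.mul_pow]
      refine mul_mem (pow_mem hz.1 _) ?_
      rw [← zpow_natCast ((w ^ r) ^ i), ← zpow_mul, Int.mul_comm, zpow_mul, zpow_natCast,
        ← pow_mul, ← pow_succ']
      exact zpow_mem hn i
    obtain ⟨k, hk⟩ := orderOf_of_mem_pgroup c.hyp.isPGroup hwR
    have : ∀ n, w ^ r ^ n ∈ center G → w ∈ center G := by
      intro n
      induction n with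
      | zero => simp
      | succ n ih => exact fun hn => ih (step n hn)
    exact hw (this k (by rw [orderOf_dvd_iff_pow_eq_one.1 hk]; exact one_mem _))

theorem mem_R_of_rel (c : Ctx r R N b) [Fact r.Prime] {w a : G} (hwR : w ∈ R) (hw : w ∉ center G)
    (ha : ∃ k, orderOf a ∣ r ^ k) (haC : a ∈ C[w]) : a ∈ C[w] ⊓ R := by
  obtain ⟨hcard, -, hcent, -⟩ := c.full hwR hw
  set T := C[w] ⊓ R
  have hn : zpowers a ≤ normalizer (T : Set G) :=
    le_trans (zpowers_le.2 (mem_centralizer_iff.2 fun u hu =>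
      (mem_centralizer_iff.1 (hcent hu) a haC).symm)) (centralizer_le_normalizer _)
  have hp : IsPGroup r (zpowers a ⊔ T : Subgroup G) :=
    (isPGroup_zpowers ha).to_sup_of_normal_right' (c.hyp.isPGroup.to_le inf_le_right) hn
  obtain ⟨i, hi⟩ := IsPGroup.iff_card.1 hp
  have hle : Nat.card (zpowers a ⊔ T : Subgroup G) ≤ b := by
    rw [← c.bound_eq w (c.hyp.le hwR) hw, bound, hi]
    refine Nat.le_of_dvd (pow_pos (Fact.out : r.Prime).pos _) ?_
    refine (Nat.Prime.pow_dvd_iff_dvd_ordProj Fact.out Nat.card_pos.ne').1 ?_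
    rw [← hi]
    exact card_dvd_of_le (sup_le (zpowers_le.2 haC) inf_le_left)
  exact (eq_of_le_of_card_ge le_sup_right (hle.trans hcard.ge) : T = _).ge
    (mem_sup_left (mem_zpowers a))

theorem card_sup_centralizer (c : Ctx r R N b) [Fact r.Prime] {w : G} (hwR : w ∈ R)
    (hw : w ∉ center G) :
    Nat.card (C[w] ⊓ R ⊔ centralizer (R : Set G) : Subgroup G) * Nat.card (center G ⊓ R : Subgroup G) =
      b * Nat.card (centralizer (R : Set G)) := by
  obtain ⟨hcard, -, hcent, -⟩ := c.full hwR hw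
  set T := C[w] ⊓ R
  set D := centralizer (R : Set G)
  have hinf : D ⊓ T = center G ⊓ R := by
    refine le_antisymm ?_ (le_inf (inf_le_left.trans (center_le_centralizer _))
      (le_inf (inf_le_left.trans (center_le_centralizer_singleton w)) inf_le_right))
    rintro z ⟨hzD, hzC, hzR⟩
    refine ⟨by_contra fun hzZ => c.hyp.not_le_cent c.bound_eq c.lt (c.hyp.le hzR) hzZ
      fun u hu => mem_cent.2 (mem_centralizer_iff.1 hzD u hu), hzR⟩
  have hDC : D ≤ C[w] := fun d hd => mem_cent.2 (mem_centralizer_iff.1 hd w hwR).symm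
  have hn : T ≤ normalizer (D : Set G) :=
    le_trans (fun s hs => centralizer_le hDC (hcent hs)) (centralizer_le_normalizer _)
  have hDn : (D.subgroupOf (T ⊔ D)).Normal :=
    normal_subgroupOf_of_le_normalizer (sup_le hn le_normalizer)
  have h1 := card_inf_mul D (T ⊔ D)
  rw [inf_eq_left.2 le_sup_right] at h1
  have h2 := card_inf_mul D T
  rw [hinf, hcard] at h2
  have h3 : D.relIndex (T ⊔ D) = D.relIndex T := by
    have h4 := relIndex_sup_right (H := T.subgroupOf (T ⊔ D)) (K := D.subgroupOf (T ⊔ D))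
    rwa [← subgroupOf_sup le_sup_left le_sup_right, relIndex_subgroupOf le_rfl,
      relIndex_subgroupOf le_sup_left] at h4
  rw [← h1, h3, ← h2]
  ring

/-- An element which is centralized modulo the centre commutes with a noncentral `r'`-element. -/
theorem exists_coprime (c : Ctx r R N b) [Fact r.Prime] {w : G} (hwR : w ∈ R) (hw : w ∉ center G)
    (hwM : R ≤ modCent N w) :
    ∃ y ∈ N, y ∈ C[w] ∧ y ∉ center G ∧ (orderOf y).Coprime r := by
  by_contra hB
  have h := c.hyp
  obtain ⟨hcard, -, hcent, -⟩ := c.full hwR hw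
  have hwr := orderOf_of_mem_pgroup h.isPGroup hwR
  have hwN := h.le hwR
  -- `R` is the only Sylow subgroup of `modCent N w`
  have hM : ∀ s ∈ modCent N w, (∃ k, orderOf s ∣ r ^ k) → s ∈ R := by
    intro s hs hsr
    set M := modCent N w
    have hq : IsPGroup r (M ⧸ (center G).subgroupOf M) := by
      rw [isPGroup_iff_orderOf_dvd_pow]
      intro q
      obtain ⟨⟨g, hg⟩, rfl⟩ := QuotientGroup.mk_surjective q
      obtain ⟨a, d, rfl, -, ha, hd, ⟨k, hk⟩, hdr⟩ :=
        Fusion.exists_pPart_mul (p := r) g (isOfFinOrder_of_finite g)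
      have haM : a ∈ M := (zpowers_le.2 hg) ha
      have hdM : d ∈ M := (zpowers_le.2 hg) hd
      have hdZ : d ∈ center G := by_contra fun hdZ =>
        hB ⟨d, modCent_le hdM, mem_cent_of_coprime hwr hdM hdr, hdZ, hdr⟩
      refine ⟨k, ?_⟩
      have e : (QuotientGroup.mk (⟨a * d, hg⟩ : M) : M ⧸ (center G).subgroupOf M) =
          QuotientGroup.mk (⟨a, haM⟩ : M) := by
        rw [QuotientGroup.eq, mem_subgroupOf]
        simpa [mul_assoc] using inv_mem hdZ
      rw [e]
      exact ((orderOf_map_dvd (QuotientGroup.mk' _) (⟨a, haM⟩ : M)).trans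
        (Subgroup.orderOf_mk a haM).dvd).trans hk
    have := hq.isNilpotent
    have hnil : Group.IsNilpotent M := Subgroup.isNilpotent_of_ker_le_center
      (QuotientGroup.mk' ((center G).subgroupOf M)) (by
        rw [QuotientGroup.ker_mk']
        exact fun z hz => mem_center_iff.2 fun g => Subtype.ext (mem_center_iff.1 hz g))
    obtain ⟨R₀, hR₀⟩ := h.sylow
    have hle : (R₀ : Subgroup G) ≤ M := hR₀ ▸ hwM
    have hnor := (Group.isNilpotent_of_finite_tfae.out 0 3 rfl rfl).1 hnil r inferInstance (R₀.subtype hle)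
    obtain ⟨S, hS⟩ := ((isPGroup_zpowers hsr).comap_of_injective M.subtype M.subtype_injective :
      IsPGroup r ((zpowers s).subgroupOf M)).exists_le_sylow
    have := Sylow.unique_of_normal (R₀.subtype hle) hnor
    have hmem : (⟨s, hs⟩ : M) ∈ S := hS (mem_zpowers s)
    rw [Subsingleton.elim S (R₀.subtype hle)] at hmem
    exact hR₀ ▸ hmem
  -- the centralizer of `w`
  have hCw : C[w] ≤ C[w] ⊓ R ⊔ centralizer (R : Set G) := by
    intro g hg
    refine mem_of_parts (r := r) (fun a ha har => mem_sup_left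
      (c.mem_R_of_rel hwR hw har ((zpowers_le.2 hg) ha))) fun d hd hdr => mem_sup_right ?_
    have hdC : d ∈ C[w] := (zpowers_le.2 hg) hd
    have hconj : ∀ e ∈ C[w], ∀ u ∈ R, e * u * e⁻¹ ∈ R := by
      intro e he u hu
      refine hM _ ⟨h.normal.conj_mem u (h.le hu) e, ?_⟩ ?_
      · have h1 := mem_center_iff.1 (hwM hu).2 e
        have he' : e * w * e⁻¹ = w := by rw [mem_cent.1 he, mul_inv_cancel_right]
        have e2 : w⁻¹ * (e * u * e⁻¹ * w * (e * u * e⁻¹)⁻¹) = w⁻¹ * (u * w * u⁻¹) := by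
          calc w⁻¹ * (e * u * e⁻¹ * w * (e * u * e⁻¹)⁻¹)
              = (e * w * e⁻¹)⁻¹ * (e * u * e⁻¹ * (e * w * e⁻¹) * (e * u * e⁻¹)⁻¹) := by rw [he']
            _ = e * (w⁻¹ * (u * w * u⁻¹)) * e⁻¹ := by group
            _ = w⁻¹ * (u * w * u⁻¹) := by rw [h1, mul_inv_cancel_right]
        rw [e2]
        exact (hwM hu).2
      · rw [orderOf_conj]
        exact orderOf_of_mem_pgroup h.isPGroup hu
    have hdn : d ∈ normalizer (R : Set G) := mem_normalizer_iff.2 fun u =>
      ⟨hconj d hdC u, fun hu => by simpa [mul_assoc] using hconj d⁻¹ (inv_mem hdC) _ hu⟩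
    exact mem_centralizer_iff.2 fun u hu => (commute_of_normalizes h.isPGroup hwM hdC hdr hdn
      (fun s hs hsC => mem_centralizer_iff.1 (hcent ⟨hsC, hs⟩) d hdC) hu).symm
  obtain ⟨y, hyN, hy, hyr⟩ := c.exists_prime'
  obtain ⟨g, hgN, t, htR, htZ, hgt, -⟩ := h.exists_full hyN hy
  set y' := g * y * g⁻¹ with hy'
  have hy'N : y' ∈ N := h.normal.conj_mem y hyN g
  have hy'Z : y' ∉ center G := fun hz => hy (conj_mem_center.1 hz)
  have hy't : y' ∈ C[t] := hgt ▸ self_mem_cent y'
  obtain ⟨htcard, -, htcent, -⟩ := c.full htR htZ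
  have hD : centralizer (R : Set G) ≤ C[t] := fun d hd =>
    mem_cent.2 (mem_centralizer_iff.1 hd t htR).symm
  have hle : C[t] ⊓ R ⊔ centralizer (R : Set G) ≤ C[t] := sup_le inf_le_left hD
  have hcards : Nat.card C[t] ≤ Nat.card (C[t] ⊓ R ⊔ centralizer (R : Set G) : Subgroup G) := by
    refine Nat.le_of_mul_le_mul_right ?_
      (Nat.card_pos (α := (center G ⊓ R : Subgroup G)))
    rw [c.card_sup_centralizer htR htZ, ← c.card_sup_centralizer hwR hw,
      h.card_eq t (h.le htR) w hwN htZ hw]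
    exact Nat.mul_le_mul_right _ (card_le_of_le hCw)
  have hy'sup : y' ∈ C[t] ⊓ R ⊔ centralizer (R : Set G) := (eq_of_le_of_card_ge hle hcards).ge hy't
  have hn : C[t] ⊓ R ≤ normalizer (centralizer (R : Set G) : Set G) :=
    le_trans (fun s hs => centralizer_le hD (htcent hs)) (centralizer_le_normalizer _)
  rw [← SetLike.mem_coe, coe_mul_of_left_le_normalizer_right _ _ hn] at hy'sup
  obtain ⟨τ, hτ, d, hd, hτd⟩ := hy'sup
  have hy'D : y' ∈ centralizer (R : Set G) := by
    have hcomm : Commute τ d := (mem_centralizer_iff.1 (htcent hτ) d (hD hd)).symm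
    obtain ⟨k, hk⟩ := orderOf_of_mem_pgroup h.isPGroup (hτ.2)
    have e : y' ^ r ^ k = d ^ r ^ k := by
      rw [← hτd, hcomm.mul_pow, orderOf_dvd_iff_pow_eq_one.1 hk, one_mul]
    obtain ⟨m, hm⟩ := exists_pow_eq_self_of_coprime (x := y') (n := r ^ k)
      (by rw [hy', orderOf_conj]; exact (hyr.symm).pow_left k)
    rw [← hm, e]
    exact pow_mem (pow_mem hd _) _
  exact h.not_le_cent c.bound_eq c.lt hy'N hy'Z fun u hu =>
    mem_cent.2 (mem_centralizer_iff.1 hy'D u hu)

/-- The Sylow subgroup has order `r ^ 2` modulo the centre. -/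
theorem structure_sylow (c : Ctx r R N b) [Fact r.Prime] :
    Nat.card R = b * r ∧ ∀ w ∈ R, R ≤ modCent N w := by
  obtain ⟨x, hxR, hxZ, hxp, hxM⟩ := exists_modCent_sylow c.hyp
  obtain ⟨y, hyN, hyx, hyZ, hyr⟩ := c.exists_coprime hxR hxZ hxM
  have hidx := c.hyp.relIndex_le (orderOf_of_mem_pgroup c.hyp.isPGroup hxR) hxZ hxp hyN hyZ hyr hyx hxM
  obtain ⟨hcard, hb, -, -⟩ := c.full hxR hxZ
  have h1 := card_inf_mul C[x] R
  rw [hcard] at h1
  have hR : Nat.card R = b * r := by
    refine le_antisymm (h1 ▸ Nat.mul_le_mul_left b hidx) ?_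
    have h2 := mul_card_le c.hyp.isPGroup (inf_le_right : C[x] ⊓ R ≤ R) fun e =>
      c.lt.ne (hcard.symm.trans (congrArg (fun L : Subgroup G => Nat.card L) e))
    rwa [hcard] at h2
  refine ⟨hR, fun w hw u hu => ⟨c.hyp.le hu, ?_⟩⟩
  set K := (center G).subgroupOf R
  have : K.Normal := Normal.comap inferInstance _
  have hq : Nat.card (R ⧸ K) = r ^ 2 := by
    have h3 := card_eq_card_quotient_mul_card_subgroup K
    rw [show Nat.card K = Nat.card (center G ⊓ R : Subgroup G) from by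
      show Nat.card ((center G).subgroupOf R) = _
      rw [← inf_subgroupOf_right]; exact Nat.card_congr (subgroupOfEquivOfLe inf_le_right).toEquiv,
      hR, hb] at h3
    refine (Nat.eq_of_mul_eq_mul_right
      (Nat.card_pos (α := (center G ⊓ R : Subgroup G))) ?_).symm
    rw [← h3]; ring
  have hcomm := IsPGroup.commutative_of_card_eq_prime_sq hq
  have h4 := QuotientGroup.eq.1
    (hcomm (QuotientGroup.mk (⟨w, hw⟩ : R)) (QuotientGroup.mk (⟨u, hu⟩ : R)))
  have h5 := (inferInstance : (center G).Normal).conj_mem _ (mem_subgroupOf.1 h4) u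
  push_cast at h5
  rw [show u * ((w * u)⁻¹ * (u * w)) * u⁻¹ = w⁻¹ * (u * w * u⁻¹) by group] at h5
  exact h5

end Ctx

end Cfsg.Agent.TwoClassSizes.Normal
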